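import Mathlib
import Cfsg.Agent.Lib.Helper68.MixStmt

/-!
# S4017 piece INVCONJ: every involution is conjugate into `Q`.
-/

set_option autoImplicit false

namespace Cfsg.Agent.Lib.Helper61.MixINVCONJ

open Cfsg.Agent.Lib.Helper68.MixStmt

universe u

theorem mem_smul_sylow {H : Type u} [Group H] {p : ℕ} (S : Sylow p H) (n x : H) :
    x ∈ ((n • S : Sylow p H) : Subgroup H) ↔ n⁻¹ * x * n ∈ (S : Subgroup H) := by
  rw [Sylow.coe_subgroup_smul, Subgroup.mem_pointwise_smul_iff_inv_smul_mem]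
  simp [MulAut.smul_def, mul_assoc]

theorem main : Cfsg.Agent.Lib.Helper68.MixStmt.INVCONJ.{u} := by
  intro G _ _ p a Q y hB w hw
  have : Fact (Nat.Prime 2) := ⟨Nat.prime_two⟩
  have hcard : Nat.card Q = 2 ^ (Nat.card G).factorization 2 := by
    rw [hB.hfac]; exact hB.hQ
  let S : Sylow 2 G := Sylow.ofCard Q hcard
  have hS : (S : Subgroup G) = Q := rfl
  have hwp : IsPGroup 2 (Subgroup.zpowers w) := by
    apply IsPGroup.of_card (n := 1)
    rw [Nat.card_zpowers, hw, pow_one]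
  obtain ⟨S', hS'⟩ := hwp.exists_le_sylow
  obtain ⟨g, hg⟩ := MulAction.exists_smul_eq G S' S
  refine ⟨g, ?_⟩
  have hwS' : w ∈ (S' : Subgroup G) := hS' (Subgroup.mem_zpowers w)
  have h1 : g * w * g⁻¹ ∈ ((g • S' : Sylow 2 G) : Subgroup G) := by
    rw [mem_smul_sylow]
    have e : g⁻¹ * (g * w * g⁻¹) * g = w := by group
    rw [e]; exact hwS'
  rw [hg, hS] at h1
  exact h1

end Cfsg.Agent.Lib.Helper61.MixINVCONJ
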