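import Mathlib
import Cfsg.Agent.Lib.Helper10.C2MStmt

/-!
# S5990C / PLUSSUMM (helper61, instant spare: port of my landed `Helper61.HPB1PP`)

The orthogonal sum of two plus-type subspaces (meeting trivially) is of plus type, minus form.
-/

set_option autoImplicit false

namespace Cfsg.Agent.Lib.Helper61.C2MPLUSSUMM

universe u

open Cfsg.Agent.Lib.Helper10.C2MStmt

theorem main : PlusSumM.{u} := by
  intro F _ _ a₀ b₀ _ d A B horth hAB hA hB
  obtain ⟨UA, hUA, hUA0, hUAr⟩ := hA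
  obtain ⟨UB, hUB, hUB0, hUBr⟩ := hB
  refine ⟨UA ⊔ UB, sup_le_sup hUA hUB, ?_, ?_⟩
  · intro w hw
    obtain ⟨u, hu, v, hv, rfl⟩ := Submodule.mem_sup.1 hw
    have hpol : QuadraticMap.polar (Cfsg.quadFormMinus (d - 1) F a₀ b₀) u v = 0 :=
      horth u (hUA hu) v (hUB hv)
    have h1 : Cfsg.quadFormMinus (d - 1) F a₀ b₀ (u + v) =
        Cfsg.quadFormMinus (d - 1) F a₀ b₀ u + Cfsg.quadFormMinus (d - 1) F a₀ b₀ v +
          QuadraticMap.polar (Cfsg.quadFormMinus (d - 1) F a₀ b₀) u v := by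
      unfold QuadraticMap.polar
      ring
    rw [h1, hUA0 u hu, hUB0 v hv, hpol]
    simp
  · have hinfU : UA ⊓ UB = ⊥ := by
      apply le_bot_iff.1
      rw [← hAB]
      exact inf_le_inf hUA hUB
    have h1 := Submodule.finrank_sup_add_finrank_inf_eq UA UB
    have h2 := Submodule.finrank_sup_add_finrank_inf_eq A B
    rw [hinfU, finrank_bot, add_zero] at h1
    rw [hAB, finrank_bot, add_zero] at h2
    show 2 * Module.finrank F ↥(UA ⊔ UB) = Module.finrank F ↥(A ⊔ B)
    have hUAr' : 2 * Module.finrank F ↥UA = Module.finrank F ↥A := hUAr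
    have hUBr' : 2 * Module.finrank F ↥UB = Module.finrank F ↥B := hUBr
    omega

end Cfsg.Agent.Lib.Helper61.C2MPLUSSUMM
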