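import Mathlib
import Cfsg.Agent.Lib.Helper45.OMiStmt
import Cfsg.Agent.Lib.Helper94.OMiPStmt

/-!
# S5991 / CLS1ALT (helper61)

`main : MUniq → Cls1`: transport of the structures along the isometries and uniqueness of the
type modulo squares.  (`uniq_one` is the direct proof of the uniqueness for `d = 1`, kept as a
lemma; `MUniq` covers `1 ≤ d`.)
-/

set_option autoImplicit false

universe u

namespace Cfsg.Agent.Lib.Helper61.CLS1ALT

open Cfsg.Agent.Lib.Helper45.OMiStmt

/-- homogeneity of the standard minus form -/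
theorem minus_smul {F : Type u} [Field F] (n : ℕ) (a b t : F)
    (v : (Fin n ⊕ Fin n) ⊕ Fin 2 → F) :
    Cfsg.quadFormMinus n F a b (t • v) = t * t * Cfsg.quadFormMinus n F a b v := by
  unfold Cfsg.quadFormMinus
  simp only [Pi.smul_apply, smul_eq_mul]
  rw [mul_add, Finset.mul_sum]
  congr 1
  · apply Finset.sum_congr rfl
    intro i _
    ring
  · ring

/-- transport of a `c`-structure along an isometry -/
theorem transport {F : Type u} [Field F] (d : ℕ) (a b : F)
    (W' W : Submodule F (M d → F)) (e : ↥W' ≃ₗ[F] ↥W)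
    (he : ∀ w : ↥W', Cfsg.quadFormMinus (d - 1) F a b ((e w : ↥W) : M d → F) =
      Cfsg.quadFormMinus (d - 1) F a b (w : M d → F))
    (c : F) (h : CStr d F a b W' c) :
    Cfsg.Agent.Lib.Helper94.OMiPStmt.TypeM d a b c W := by
  obtain ⟨ut, hutW, hutc, L, hLW, hLs, hLp, hLd⟩ := h
  have hpol : ∀ x y : ↥W', QuadraticMap.polar (Cfsg.quadFormMinus (d - 1) F a b)
      ((e x : ↥W) : M d → F) ((e y : ↥W) : M d → F) =
      QuadraticMap.polar (Cfsg.quadFormMinus (d - 1) F a b) (x : M d → F) (y : M d → F) := by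
    intro x y
    unfold QuadraticMap.polar
    have h1 : ((e x : ↥W) : M d → F) + ((e y : ↥W) : M d → F) = ((e (x + y) : ↥W) : M d → F) := by
      rw [map_add, Submodule.coe_add]
    rw [h1, he, he, he, Submodule.coe_add]
  let f : ↥W' →ₗ[F] (M d → F) := W.subtype ∘ₗ e.toLinearMap
  have hf : Function.Injective f := by
    intro x y hxy
    apply e.injective
    apply Subtype.ext
    exact hxy
  let L0 : Submodule F ↥W' := Submodule.comap W'.subtype L
  refine ⟨Submodule.map f L0, ?_, ?_, ?_, ((e ⟨ut, hutW⟩ : ↥W) : M d → F), (e ⟨ut, hutW⟩).2, ?_, ?_⟩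
  · rintro _ ⟨l, -, rfl⟩
    exact (e l).2
  · rintro _ ⟨l, hl, rfl⟩
    show Cfsg.quadFormMinus (d - 1) F a b ((e l : ↥W) : M d → F) = 0
    rw [he]
    exact hLs _ hl
  · have h1 : Module.finrank F ↥(Submodule.map f L0) = Module.finrank F ↥L0 :=
      (Submodule.equivMapOfInjective f hf L0).symm.finrank_eq
    have h2 : Module.finrank F ↥L0 = Module.finrank F ↥L :=
      (Submodule.comapSubtypeEquivOfLe hLW).finrank_eq
    have h3 : Module.finrank F ↥W' = Module.finrank F ↥W := e.finrank_eq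
    rw [h1, h2, ← h3]
    exact hLd
  · rintro _ ⟨l, hl, rfl⟩
    show QuadraticMap.polar (Cfsg.quadFormMinus (d - 1) F a b) ((e l : ↥W) : M d → F)
      ((e ⟨ut, hutW⟩ : ↥W) : M d → F) = 0
    rw [hpol]
    exact hLp _ hl
  · rw [he]
    exact hutc

/-- a `c`-structure is a type (reordering of the fields) -/
theorem type_of_cstr {F : Type u} [Field F] (d : ℕ) (a b : F)
    (W : Submodule F (M d → F)) (c : F) (h : CStr d F a b W c) :
    Cfsg.Agent.Lib.Helper94.OMiPStmt.TypeM d a b c W := by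
  obtain ⟨ut, hutW, hutc, L, hLW, hLs, hLp, hLd⟩ := h
  exact ⟨L, hLW, hLs, hLd, ut, hutW, hLp, hutc⟩

/-- uniqueness of the type in the anisotropic plane (`d = 1`) -/
theorem uniq_one {F : Type u} [Field F] (a b : F) (hab : Aniso a b)
    (W : Submodule F (M 1 → F)) (c c' : F) (hc' : c' ≠ 0)
    (h : Cfsg.Agent.Lib.Helper94.OMiPStmt.TypeM 1 a b c W)
    (h' : Cfsg.Agent.Lib.Helper94.OMiPStmt.TypeM 1 a b c' W) :
    ∃ t : F, c = t * t * c' := by
  have hzero : ∀ v : M 1 → F, Cfsg.quadFormMinus (1 - 1) F a b v = 0 → v = 0 := by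
    intro v hv
    unfold Cfsg.quadFormMinus at hv
    have hs : (∑ i : Fin (1 - 1), v (.inl (.inl i)) * v (.inl (.inr i))) = 0 := by
      apply Finset.sum_eq_zero
      intro i _
      exact i.elim0
    rw [hs, zero_add] at hv
    obtain ⟨h0, h1⟩ := hab _ _ hv
    funext j
    rcases j with (j | j) | j
    · exact j.elim0
    · exact j.elim0
    · fin_cases j
      · exact h0
      · exact h1
  obtain ⟨S, hSW, hSs, hSd, w, hwW, -, hwc⟩ := h
  obtain ⟨S', -, -, -, w', hw'W, -, hw'c⟩ := h'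
  have hS : S = ⊥ := by
    rw [eq_bot_iff]
    intro s hs
    rw [Submodule.mem_bot]
    exact hzero s (hSs s hs)
  rw [hS, finrank_bot] at hSd
  have hw'0 : (⟨w', hw'W⟩ : ↥W) ≠ 0 := by
    intro h0
    have h1 : w' = 0 := congrArg Subtype.val h0
    apply hc'
    rw [← hw'c, h1]
    unfold Cfsg.quadFormMinus
    simp
  have hone : Module.finrank F ↥W = 1 := by rw [← hSd]
  obtain ⟨t, ht⟩ := (finrank_eq_one_iff_of_nonzero' (⟨w', hw'W⟩ : ↥W) hw'0).mp hone ⟨w, hwW⟩
  have ht' : t • w' = w := congrArg Subtype.val ht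
  refine ⟨t, ?_⟩
  rw [← hwc, ← ht', minus_smul, hw'c]

theorem main (hU : Cfsg.Agent.Lib.Helper94.OMiPStmt.MUniq.{u}) : Cls1.{u} := by
  intro F _ _ hodd d m hd a b hab W₀ W W' hW hW' c c' hc hc'
  by_cases hc0 : c' = 0
  · exact ⟨0, by rw [hc0]; simp⟩
  obtain ⟨-, hWnd, e, he⟩ := hW
  obtain ⟨-, -, e', he'⟩ := hW'
  have hT : Cfsg.Agent.Lib.Helper94.OMiPStmt.TypeM d a b c W := type_of_cstr d a b W c hc
  have hT' : Cfsg.Agent.Lib.Helper94.OMiPStmt.TypeM d a b c' W := by
    apply transport d a b W' W (e'.trans e.symm) _ c' hc'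
    intro w
    have h1 := he (e.symm (e' w))
    rw [LinearEquiv.apply_symm_apply] at h1
    rw [LinearEquiv.trans_apply, ← h1, he']
  have key : ∃ t : F, c = t * t * c' := hU F hodd d hd a b hab W hWnd c c' hc0 hT hT'
  obtain ⟨t, ht⟩ := key
  exact ⟨t * c', by rw [ht]; ring⟩

end Cfsg.Agent.Lib.Helper61.CLS1ALT
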