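import Mathlib
import Cfsg.Agent.Lib.Helper32.D8Stmt
import Cfsg.Agent.Lib.Helper26.GenChar
import Cfsg.Agent.Lib.Helper61.D8C2A

/-!
# S3716 piece CASE1: no fusion (COMMONNEG, then PAIR twice).
-/

set_option autoImplicit false

namespace Cfsg.Agent.Lib.Helper61.D8CASE1

open Cfsg Cfsg.Agent.Lib.Helper32.D8Stmt Cfsg.Agent.Lib.Helper61.D8C2A
open scoped ComplexConjugate

universe u

theorem main (hCN : COMMONNEG.{u}) (hPAIR : PAIR.{u}) : CASE1.{u} := by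
  intro G _ _ Θ1 Θ2 Θ3 Θ4 a w ca cw hB hca hcw hTab
  obtain ⟨⟨hα1, hβ1, hγ1⟩, ⟨hα2, hβ2, hγ2⟩, ⟨hα3, hβ3, hγ3⟩, ⟨hα4, hβ4, hγ4⟩⟩ := hTab
  have htriv : IsIrrCharacter G (triv G) := Cfsg.Agent.Lib.CT.Ops.isIrrCharacter_one
  have ht : ∀ g : G, triv G g = 1 := fun _ => rfl
  have hn : (Nat.card G : ℂ) ≠ 0 := by
    exact_mod_cast Nat.card_pos.ne'
  -- `Θ1 - Θ4`
  have g14 : IsGeneralizedCharacter G (Θ1 - Θ4) :=
    Cfsg.Agent.Lib.Helper26.GenChar.isGeneralizedCharacter_sub hB.g1 hB.g4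
  have o14 : (Θ1 - Θ4) 1 = 0 := by rw [Pi.sub_apply, hB.o1, hB.o4, sub_zero]
  have n14 : classInner (Θ1 - Θ4) (Θ1 - Θ4) = 4 := by
    rw [norm_sub Θ1 Θ4 4 2 2 4 hB.n11 hB.n14 hB.n41 hB.n44]; norm_num
  have a14 : (Θ1 - Θ4) a = 0 := by rw [Pi.sub_apply, hB.a1, hB.a4, sub_zero]
  have w14 : (Θ1 - Θ4) w = 0 := by rw [Pi.sub_apply, hB.w1, hB.w4, sub_zero]
  have t14 : classInner (Θ1 - Θ4) (triv G) = 1 := by rw [ci_sub_left, hB.t1, hB.t4, sub_zero]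
  -- `Θ2 - Θ3`
  have g23 : IsGeneralizedCharacter G (Θ2 - Θ3) :=
    Cfsg.Agent.Lib.Helper26.GenChar.isGeneralizedCharacter_sub hB.g2 hB.g3
  have o23 : (Θ2 - Θ3) 1 = 0 := by rw [Pi.sub_apply, hB.o2, hB.o3, sub_zero]
  have n23 : classInner (Θ2 - Θ3) (Θ2 - Θ3) = 4 := by
    rw [norm_sub Θ2 Θ3 4 2 2 4 hB.n22 hB.n23 hB.n32 hB.n33]; norm_num
  have a23 : (Θ2 - Θ3) a = 0 := by rw [Pi.sub_apply, hB.a2, hB.a3, sub_zero]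
  have w23 : (Θ2 - Θ3) w = 0 := by rw [Pi.sub_apply, hB.w2, hB.w3, sub_zero]
  have t23 : classInner (Θ2 - Θ3) (triv G) = -1 := by rw [ci_sub_left, hB.t2, hB.t3, zero_sub]
  have c12 : classInner (Θ1 - Θ4) (Θ2 - Θ3) = -2 := by
    rw [ci_sub_left, ci_sub_right, ci_sub_right, hB.n12, hB.n13, hB.n42, hB.n43]; norm_num
  obtain ⟨U, hU, hUt, hcase⟩ := hCN (Θ1 - Θ4) (Θ2 - Θ3) g14 g23 o14 o23 n14 n23 t14 t23 c12
  obtain ⟨σ, hσ, u14, u23⟩ : ∃ σ : ℂ, (σ = 1 ∨ σ = -1) ∧ classInner (Θ1 - Θ4) U = σ ∧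
      classInner (Θ2 - Θ3) U = -σ := by
    rcases hcase with ⟨h1, h2⟩ | ⟨h1, h2⟩
    · exact ⟨1, Or.inl rfl, h1, h2⟩
    · exact ⟨-1, Or.inr rfl, h1, by rw [h2]; norm_num⟩
  have hσ' : (-σ = 1 ∨ -σ = -1) := by rcases hσ with h | h <;> rw [h] <;> norm_num
  have P5 := hPAIR (Θ1 - Θ4) (triv G) U 1 σ a w g14 o14 n14 a14 w14 htriv hU (Ne.symm hUt)
    (Or.inl rfl) hσ t14 u14
  have P6 := hPAIR (Θ2 - Θ3) (triv G) U (-1) (-σ) a w g23 o23 n23 a23 w23 htriv hU (Ne.symm hUt)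
    (Or.inr rfl) hσ' t23 u23
  obtain ⟨dU, hdU⟩ := Cfsg.Agent.Lib.CT.Wedderburn.char_exists_apply_one
    (Cfsg.Agent.Lib.CT.Wedderburn.isCharacter_of_irr hU)
  simp only [ht, bb_sub, hα1, hβ1, hγ1, hα4, hβ4, hγ4] at P5
  simp only [ht, bb_sub, hα2, hβ2, hγ2, hα3, hβ3, hγ3] at P6
  generalize (Nat.card G : ℂ) = n at *
  have k2 : ca ^ 2 * cw ^ 2 * n⁻¹ ^ 2 ≠ 0 :=
    mul_ne_zero (mul_ne_zero (pow_ne_zero 2 hca) (pow_ne_zero 2 hcw))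
      (pow_ne_zero 2 (inv_ne_zero hn))
  have key : (1 + σ * U 1) * (ca ^ 2 * cw ^ 2 * n⁻¹ ^ 2) = 0 := by
    linear_combination 2 * P5 - 2 * P6
  have h0 : 1 + σ * U 1 = 0 := (mul_eq_zero.mp key).resolve_right k2
  refine ⟨U, hU, hUt, ?_⟩
  rcases hσ with hσ | hσ
  · exfalso
    rw [hσ, hdU] at h0
    have h : ((1 + (dU : ℤ) : ℤ) : ℂ) = ((0 : ℤ) : ℂ) := by push_cast; linear_combination h0
    have h2 : 1 + (dU : ℤ) = 0 := by exact_mod_cast h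
    omega
  · rw [hσ] at h0
    linear_combination -h0

end Cfsg.Agent.Lib.Helper61.D8CASE1
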