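import Mathlib
import Cfsg.Agent.Lib.Helper57.FTStmt
import Cfsg.Agent.Lib.Helper38.SLCard

/-!
# S3999 piece CARD15 (helper61, for helper57's call)

The order of a group with a subgroup of index `≤ 2` of the shape `SL(2,5) ∘ M`, `|M|` coprime to
`30`, is divisible by `15` and not by `9` or `25`.
-/

set_option autoImplicit false

namespace Cfsg.Agent.Lib.Helper61.FTCARD15

universe u

open Cfsg.Agent.Lib.Helper57.FTStmt

theorem main : Card15.{u} := by
  intro Y _ _ G₀ S M hidx hsup hcomm he hcop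
  obtain ⟨e⟩ := he
  have hp5 : Fact (Nat.Prime 5) := ⟨by norm_num⟩
  have hS : Nat.card S = 120 := by
    rw [Nat.card_congr e.toEquiv]
    have h := Cfsg.Agent.Lib.Helper38.SLCard.card_SL2 (F := ZMod 5)
    rw [ZMod.card 5] at h
    exact h
  have hSY : Nat.card S ∣ Nat.card Y := Subgroup.card_subgroup_dvd_card S
  have h15 : 15 ∣ Nat.card Y := by
    rw [hS] at hSY
    exact Dvd.dvd.trans (by norm_num) hSY
  have hc : ∀ (m : S) (n : M), Commute (S.subtype m) (M.subtype n) :=
    fun m n => hcomm m.1 m.2 n.1 n.2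
  have hr := MonoidHom.noncommCoprod_range S.subtype M.subtype hc
  rw [Subgroup.range_subtype, Subgroup.range_subtype, hsup] at hr
  have hG : Nat.card G₀ ∣ Nat.card S * Nat.card M := by
    rw [← hr, ← Nat.card_prod]
    exact Subgroup.card_range_dvd _
  rw [hS] at hG
  have hY : Nat.card Y ∣ 240 * Nat.card M := by
    rw [← Subgroup.card_mul_index G₀]
    obtain ⟨k, hk⟩ := hG
    rcases hidx with h | h
    · rw [h, mul_one]
      exact ⟨2 * k, by
        rw [show 240 * Nat.card M = 2 * (120 * Nat.card M) by ring, hk]; ring⟩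
    · rw [h]
      exact ⟨k, by
        rw [show 240 * Nat.card M = 2 * (120 * Nat.card M) by ring, hk]; ring⟩
  have hc3 : (Nat.card M).Coprime 3 :=
    Nat.Coprime.coprime_dvd_right (by norm_num : 3 ∣ 30) hcop
  have hc5 : (Nat.card M).Coprime 5 :=
    Nat.Coprime.coprime_dvd_right (by norm_num : 5 ∣ 30) hcop
  refine ⟨h15, ?_, ?_⟩
  · intro h9
    have h := h9.trans hY
    have hc9 : Nat.Coprime (3 ^ 2) (Nat.card M) := Nat.Coprime.pow_left 2 hc3.symm
    have h' : 3 ^ 2 ∣ 240 := hc9.dvd_of_dvd_mul_right (by simpa using h)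
    revert h'
    norm_num
  · intro h25
    have h := h25.trans hY
    have hc25 : Nat.Coprime (5 ^ 2) (Nat.card M) := Nat.Coprime.pow_left 2 hc5.symm
    have h' : 5 ^ 2 ∣ 240 := hc25.dvd_of_dvd_mul_right (by simpa using h)
    revert h'
    norm_num

end Cfsg.Agent.Lib.Helper61.FTCARD15
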