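import Mathlib
import Cfsg.Agent.Lib.Helper57.FTStmt

/-!
# S3999 piece NO15 (helper61, for helper57's call)

No element of order `15` in a group with a subgroup of index `≤ 2` of the shape `SL(2,5) × M`,
`|M|` coprime to `30`.
-/

set_option autoImplicit false

namespace Cfsg.Agent.Lib.Helper61.FTNO15

universe u

open Cfsg.Agent.Lib.Helper57.FTStmt

theorem main : No15.{u} := by
  intro Y _ _ G₀ S M hN hidx hsup hinf hcomm he hcop hSL y hy
  obtain ⟨e⟩ := he
  -- `y ∈ G₀`
  have hyG : y ∈ G₀ := by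
    rcases hidx with h1 | h2
    · rw [Subgroup.index_eq_one] at h1
      rw [h1]
      exact Subgroup.mem_top y
    · have h := Subgroup.mul_self_mem_of_index_two h2 y
      have h8 : (y * y) ^ 8 = y := by
        have h16 : (y * y) ^ 8 = y ^ 15 * y := by
          rw [← pow_two, ← pow_mul, ← pow_succ]
        rw [h16, ← hy, pow_orderOf_eq_one, one_mul]
      rw [← h8]
      exact G₀.pow_mem h 8
  -- `y = s * t`
  rw [← hsup] at hyG
  have hdec : ∃ s ∈ S, ∃ t ∈ M, y = s * t := by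
    have hc : ∀ (m : S) (n : M), Commute (S.subtype m) (M.subtype n) :=
      fun m n => hcomm m.1 m.2 n.1 n.2
    have hr := MonoidHom.noncommCoprod_range S.subtype M.subtype hc
    rw [Subgroup.range_subtype, Subgroup.range_subtype] at hr
    rw [← hr] at hyG
    obtain ⟨st, hst⟩ := hyG
    refine ⟨st.1.1, st.1.2, st.2.1, st.2.2, ?_⟩
    rw [← hst, MonoidHom.noncommCoprod_apply]
    rfl
  obtain ⟨s, hs, t, ht, hyst⟩ := hdec
  have hcst : Commute s t := hcomm s hs t ht
  have h15 : s ^ 15 * t ^ 15 = 1 := by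
    rw [← hcst.mul_pow, ← hyst, ← hy, pow_orderOf_eq_one]
  have ht15 : t ^ 15 ∈ S ⊓ M := by
    refine ⟨?_, M.pow_mem ht 15⟩
    have h' : t ^ 15 = (s ^ 15)⁻¹ := eq_inv_of_mul_eq_one_right h15
    show t ^ 15 ∈ S
    rw [h']
    exact S.inv_mem (S.pow_mem hs 15)
  rw [hinf, Subgroup.mem_bot] at ht15
  have hto : orderOf t ∣ 15 := orderOf_dvd_of_pow_eq_one ht15
  have hto2 : orderOf t ∣ Nat.card M := by
    have h := orderOf_dvd_natCard (⟨t, ht⟩ : M)
    rwa [Subgroup.orderOf_mk] at h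
  have ht1 : t = 1 := by
    have h1 : orderOf t ∣ Nat.gcd 15 (Nat.card M) := Nat.dvd_gcd hto hto2
    have h2 : Nat.gcd 15 (Nat.card M) = 1 := by
      have h3 : (Nat.card M).Coprime 15 :=
        Nat.Coprime.coprime_dvd_right (by norm_num : 15 ∣ 30) hcop
      exact h3.symm
    rw [h2, Nat.dvd_one, orderOf_eq_one_iff] at h1
    exact h1
  rw [ht1, mul_one] at hyst
  apply hSL (e ⟨s, hs⟩)
  rw [MulEquiv.orderOf_eq, Subgroup.orderOf_mk, ← hyst]
  exact hy

end Cfsg.Agent.Lib.Helper61.FTNO15
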