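import Mathlib
import Cfsg.Agent.Lib.Helper68.MixStmt

/-!
# S4017 piece A2b: Case A, and no involution normalizes a Sylow `p`-subgroup: contradiction.
-/

set_option autoImplicit false

namespace Cfsg.Agent.Lib.Helper61.MixA2b

open Cfsg.Agent.Lib.Helper68.MixStmt
open Subgroup

universe u

variable {G : Type u} [Group G]

theorem sq_ne_of_order2 {w : G} (h : orderOf w = 2) : w * w = 1 ∧ w ≠ 1 := by
  constructor
  · have h3 := pow_orderOf_eq_one w
    rw [h, pow_two] at h3
    exact h3
  · intro h1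
    rw [h1, orderOf_one] at h
    norm_num at h

theorem order2_of {w : G} (h1 : w ≠ 1) (h2 : w * w = 1) : orderOf w = 2 := by
  have : Fact (Nat.Prime 2) := ⟨Nat.prime_two⟩
  exact orderOf_eq_prime (by rw [pow_two]; exact h2) h1

theorem orderOf_conj' (h x : G) : orderOf (h * x * h⁻¹) = orderOf x := by
  have hs : SemiconjBy h x (h * x * h⁻¹) := by
    unfold SemiconjBy; group
  exact (SemiconjBy.orderOf_eq h hs).symm

theorem mem_normalizer_zpowers [Finite G] (g k : G) (h : g * k * g⁻¹ ∈ zpowers k) :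
    g ∈ normalizer ((zpowers k : Subgroup G) : Set G) := by
  apply Subgroup.mem_normalizer_fintype
  intro n hn
  obtain ⟨z, rfl⟩ := Subgroup.mem_zpowers_iff.mp hn
  rw [← conj_zpow]
  exact zpow_mem h z

theorem eq_one_of_sq_odd {k : G} (h : k * k = 1) (hodd : ¬ Even (orderOf k)) : k = 1 := by
  have hd : orderOf k ∣ 2 := orderOf_dvd_of_pow_eq_one (by rw [pow_two]; exact h)
  rcases (Nat.dvd_prime Nat.prime_two).mp hd with h1 | h2
  · exact orderOf_eq_one_iff.mp h1
  · exfalso; apply hodd; rw [h2]; exact even_two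

theorem main (hA2N : A2N.{u}) (hINVN : INVN.{u}) (hINVCONJ : INVCONJ.{u}) (hNCENT : NCENT.{u})
    (hNTOP : NTOP.{u}) (hEXP : EXP.{u}) (hSIMPLE : SIMPLE.{u}) : A2b.{u} := by
  intro G _ _ p a Q y hB hA hH
  have hp := hB.hp
  have hinvn := hINVN G p a Q y hB
  have hexp := hEXP G p a Q y hB
  have hncent := hNCENT G p a Q y hB
  have hntop := hNTOP G p a Q y hB
  have hinvconj := hINVCONJ G p a Q y hB
  have ha2n := hA2N G p a Q y hB
  have hsimple := hSIMPLE G p a Q y hB
  have hinvQ : ∀ w ∈ normalizer (Q : Set G), orderOf w = 2 → w ∈ Q :=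
    fun w hw h2 => hinvn w hw ⟨1, by rw [h2, pow_one]⟩
  -- Step 1: an involution outside `N`
  have hex : ∃ u : G, orderOf u = 2 ∧ u ∉ normalizer (Q : Set G) := by
    by_contra hcon
    have hall : ∀ u : G, orderOf u = 2 → u ∈ normalizer (Q : Set G) := by
      intro u hu
      by_contra hn
      exact hcon ⟨u, hu, hn⟩
    apply hntop
    rw [eq_top_iff]
    intro g _
    apply Subgroup.mem_normalizer_fintype
    intro n hn
    by_cases hn1 : n = 1
    · rw [hn1, mul_one, mul_inv_cancel]; exact Q.one_mem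
    · have ho : orderOf (g * n * g⁻¹) = 2 := by
        rw [orderOf_conj']; exact order2_of hn1 (hexp n hn)
      exact hinvQ _ (hall _ ho) ho
  obtain ⟨u, hu, huN⟩ := hex
  obtain ⟨huu, hu1⟩ := sq_ne_of_order2 hu
  -- an element `t ∈ Q#`
  have : Fact (Nat.Prime 2) := ⟨Nat.prime_two⟩
  have h2Q : 2 ∣ Nat.card Q := by
    rw [hB.hQ]; exact dvd_pow_self 2 (by have := hB.ha; omega)
  obtain ⟨t0, ht0⟩ := exists_prime_orderOf_dvd_card' (G := ↥Q) 2 h2Q
  have ht01 : t0 ≠ 1 := by
    intro h
    rw [h, orderOf_one] at ht0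
    norm_num at ht0
  obtain ⟨t, htQ, ht1⟩ : ∃ t ∈ Q, t ≠ 1 := ⟨t0, t0.2, fun h => ht01 (Subtype.ext h)⟩
  have htt : t * t = 1 := hexp t htQ
  have htinv : t⁻¹ = t := inv_eq_of_mul_eq_one_left htt
  have huinv : u⁻¹ = u := inv_eq_of_mul_eq_one_left huu
  have htN : t ∈ normalizer (Q : Set G) := Subgroup.le_normalizer htQ
  -- `k = t u`
  have hk1 : t * u ≠ 1 := by
    intro h
    have h' : u = t⁻¹ := eq_inv_of_mul_eq_one_right h
    rw [h', htinv] at huN
    exact huN htN
  have hkt : t * (t * u) * t⁻¹ = (t * u)⁻¹ := by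
    rw [mul_inv_rev, htinv, huinv, ← mul_assoc, htt, one_mul]
  have hku : u * (t * u) * u⁻¹ = (t * u)⁻¹ := by
    rw [mul_inv_rev, htinv, huinv, mul_assoc, mul_assoc, huu, mul_one]
  have hconjpow : ∀ g : G, g * (t * u) * g⁻¹ = (t * u)⁻¹ →
      ∀ j : ℕ, g * (t * u) ^ j * g⁻¹ = ((t * u) ^ j)⁻¹ := by
    intro g hg j
    rw [← conj_pow, hg, inv_pow]
  have hm_pos : 0 < orderOf (t * u) := orderOf_pos (t * u)
  -- Step 2: `|k|` is odd
  have hodd : ¬ Even (orderOf (t * u)) := by
    rintro ⟨j, hj⟩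
    have hj0 : 0 < j := by omega
    have hii : (t * u) ^ j * (t * u) ^ j = 1 := by
      rw [← pow_add, ← hj]; exact pow_orderOf_eq_one _
    have hi1 : (t * u) ^ j ≠ 1 := by
      intro h
      have h3 := orderOf_dvd_of_pow_eq_one h
      rw [hj] at h3
      have h4 := Nat.le_of_dvd hj0 h3
      omega
    have hiinv : ((t * u) ^ j)⁻¹ = (t * u) ^ j := inv_eq_of_mul_eq_one_left hii
    have hio : orderOf ((t * u) ^ j) = 2 := order2_of hi1 hii
    have h1 : t * (t * u) ^ j = (t * u) ^ j * t := by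
      have h5 := hconjpow t hkt j
      rw [hiinv] at h5
      have e : t * (t * u) ^ j = (t * (t * u) ^ j * t⁻¹) * t := by group
      rw [e, h5]
    have hiC : (t * u) ^ j ∈ centralizer ({t} : Set G) := by
      rw [Subgroup.mem_centralizer_iff]
      intro h hh
      rw [Set.mem_singleton_iff.mp hh]; exact h1
    have hiN := hA t htQ ht1 hiC
    have hiQ := hinvQ _ hiN hio
    have h2 : u * (t * u) ^ j = (t * u) ^ j * u := by
      have h5 := hconjpow u hku j
      rw [hiinv] at h5
      have e : u * (t * u) ^ j = (u * (t * u) ^ j * u⁻¹) * u := by group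
      rw [e, h5]
    have huC : u ∈ centralizer ({(t * u) ^ j} : Set G) := by
      rw [Subgroup.mem_centralizer_iff]
      intro h hh
      rw [Set.mem_singleton_iff.mp hh]; exact h2.symm
    exact huN (hA _ hiQ hi1 huC)
  -- Step 3: `N_G(⟨k⟩)` is proper of even order, so `k` is a `p`-element
  have huNk : u ∈ normalizer ((zpowers (t * u) : Subgroup G) : Set G) :=
    mem_normalizer_zpowers u (t * u) (by rw [hku]; exact inv_mem (mem_zpowers _))
  have hNk : normalizer ((zpowers (t * u) : Subgroup G) : Set G) ≠ ⊤ := by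
    intro htop
    have hn : (zpowers (t * u)).Normal := Subgroup.normalizer_eq_top_iff.mp htop
    have := hsimple
    rcases hn.eq_bot_or_eq_top with h | h
    · exact hk1 (Subgroup.zpowers_eq_bot.mp h)
    · have hu' : u ∈ zpowers (t * u) := by rw [h]; trivial
      obtain ⟨z, hz⟩ := Subgroup.mem_zpowers_iff.mp hu'
      have hcz : (t * u) ^ z * (t * u) = (t * u) * (t * u) ^ z :=
        (Commute.zpow_self (t * u) z).eq
      have hc : u * (t * u) = (t * u) * u := by
        have h6 := hcz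
        rw [hz] at h6
        exact h6
      have e : t * u = u * (t * u) * u⁻¹ := by rw [hc]; group
      have e2 : (t * u)⁻¹ = t * u := by rw [← hku]; exact e.symm
      have hkk : (t * u) * (t * u) = 1 := by
        calc (t * u) * (t * u) = (t * u) * (t * u)⁻¹ := by rw [e2]
          _ = 1 := mul_inv_cancel _
      exact hk1 (eq_one_of_sq_odd hkk hodd)
  have h2Nk : 2 ∣ Nat.card (normalizer ((zpowers (t * u) : Subgroup G) : Set G)) := by
    have h3 := Subgroup.orderOf_dvd_natCard _ huNk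
    rwa [hu] at h3
  have hpq := hB.hE _ hNk h2Nk
  have hkNk : t * u ∈ normalizer ((zpowers (t * u) : Subgroup G) : Set G) :=
    Subgroup.le_normalizer (mem_zpowers _)
  have hmdvd : orderOf (t * u) ∣
      Nat.card (normalizer ((zpowers (t * u) : Subgroup G) : Set G)) :=
    Subgroup.orderOf_dvd_natCard _ hkNk
  have hkp : IsPElt p (t * u) := by
    refine ⟨(orderOf (t * u)).primeFactorsList.length, ?_⟩
    apply Nat.eq_prime_pow_of_unique_prime_dvd hm_pos.ne'
    intro d hd hdm
    rcases hpq d hd (dvd_trans hdm hmdvd) with h | h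
    · exact h
    · exfalso; rw [h] at hdm; exact hodd (even_iff_two_dvd.mpr hdm)
  -- Step 4: no involution centralizes `k`
  have hnoinv : ∀ w : G, orderOf w = 2 → w * (t * u) ≠ (t * u) * w := by
    intro w hw hwk
    obtain ⟨h, hh⟩ := hinvconj w hw
    have hw1 : h * w * h⁻¹ ≠ 1 := by
      intro e
      have h3 : orderOf (h * w * h⁻¹) = 2 := by rw [orderOf_conj']; exact hw
      rw [e, orderOf_one] at h3; norm_num at h3
    have hcomm : (h * w * h⁻¹) * (h * (t * u) * h⁻¹) =
        (h * (t * u) * h⁻¹) * (h * w * h⁻¹) := by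
      have e1 : (h * w * h⁻¹) * (h * (t * u) * h⁻¹) = h * (w * (t * u)) * h⁻¹ := by group
      have e2 : (h * (t * u) * h⁻¹) * (h * w * h⁻¹) = h * ((t * u) * w) * h⁻¹ := by group
      rw [e1, e2, hwk]
    have hk'C1 : h * (t * u) * h⁻¹ ∈ centralizer ({h * w * h⁻¹} : Set G) := by
      rw [Subgroup.mem_centralizer_iff]
      intro x hx
      rw [Set.mem_singleton_iff.mp hx]; exact hcomm
    have hk'N := hA _ hh hw1 hk'C1
    have hk'C := hncent _ hk'N _ hh hw1 hcomm.symm
    have hk'p : IsPElt p (h * (t * u) * h⁻¹) := by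
      obtain ⟨j, hj⟩ := hkp
      exact ⟨j, by rw [orderOf_conj']; exact hj⟩
    have hk'1 : h * (t * u) * h⁻¹ ≠ 1 := by
      intro e
      apply hk1
      have e' : t * u = h⁻¹ * (h * (t * u) * h⁻¹) * h := by group
      rw [e', e]; group
    have hNk' := ha2n _ hk'C hk'p hk'1
    have hu'inv : (h * u * h⁻¹) * (h * (t * u) * h⁻¹) * (h * u * h⁻¹)⁻¹ =
        (h * (t * u) * h⁻¹)⁻¹ := by
      have e1 : (h * u * h⁻¹) * (h * (t * u) * h⁻¹) * (h * u * h⁻¹)⁻¹ =
          h * (u * (t * u) * u⁻¹) * h⁻¹ := by group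
      rw [e1, hku]; group
    have hu'N : h * u * h⁻¹ ∈ normalizer (Q : Set G) :=
      hNk' (mem_normalizer_zpowers _ _ (by rw [hu'inv]; exact inv_mem (mem_zpowers _)))
    have hu'o : orderOf (h * u * h⁻¹) = 2 := by rw [orderOf_conj']; exact hu
    have hu'Q := hinvQ _ hu'N hu'o
    have hc := Subgroup.mem_centralizer_iff.mp hk'C _ hu'Q
    have hsq : (h * (t * u) * h⁻¹) * (h * (t * u) * h⁻¹) = 1 := by
      have e : (h * (t * u) * h⁻¹)⁻¹ = h * (t * u) * h⁻¹ := by
        rw [← hu'inv, hc]; group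
      calc (h * (t * u) * h⁻¹) * (h * (t * u) * h⁻¹)
          = (h * (t * u) * h⁻¹) * (h * (t * u) * h⁻¹)⁻¹ := by rw [e]
        _ = 1 := mul_inv_cancel _
    have hodd' : ¬ Even (orderOf (h * (t * u) * h⁻¹)) := by rw [orderOf_conj']; exact hodd
    exact hk'1 (eq_one_of_sq_odd hsq hodd')
  -- Step 5: `C_G(k)` is a Sylow `p`-subgroup normalized by `u`
  have hCkN : centralizer ({t * u} : Set G) ≤
      normalizer ((zpowers (t * u) : Subgroup G) : Set G) := by
    intro c hc
    have hc' := Subgroup.mem_centralizer_iff.mp hc (t * u) rfl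
    apply mem_normalizer_zpowers
    have e : c * (t * u) * c⁻¹ = t * u := by rw [← hc']; group
    rw [e]; exact mem_zpowers _
  have hCkcard : ∀ d : ℕ, d.Prime → d ∣ Nat.card (centralizer ({t * u} : Set G)) → d = p := by
    intro d hd hdc
    rcases hpq d hd (dvd_trans hdc (Subgroup.card_dvd_of_le hCkN)) with h | h
    · exact h
    · exfalso
      subst h
      obtain ⟨w, hw⟩ :=
        exists_prime_orderOf_dvd_card' (G := ↥(centralizer ({t * u} : Set G))) 2 hdc
      have hw' : orderOf (w : G) = 2 := by rw [Subgroup.orderOf_coe]; exact hw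
      have hwc := Subgroup.mem_centralizer_iff.mp w.2 (t * u) rfl
      exact hnoinv (w : G) hw' hwc.symm
  have hCkp : IsPGroup p (centralizer ({t * u} : Set G)) := by
    apply IsPGroup.of_card
      (n := (Nat.card (centralizer ({t * u} : Set G))).primeFactorsList.length)
    exact Nat.eq_prime_pow_of_unique_prime_dvd Nat.card_pos.ne'
      (fun {d} hd hdc => hCkcard d hd hdc)
  have : Fact p.Prime := ⟨hp⟩
  have hzp : IsPGroup p (zpowers (t * u)) := by
    obtain ⟨j, hj⟩ := hkp
    apply IsPGroup.of_card (n := j)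
    rw [Nat.card_zpowers, hj]
  obtain ⟨P', hP'⟩ := hzp.exists_le_sylow
  have hkP' : t * u ∈ (P' : Subgroup G) := hP' (mem_zpowers _)
  have hP'C : (P' : Subgroup G) ≤ centralizer ({t * u} : Set G) := by
    intro x hx
    rw [Subgroup.mem_centralizer_iff]
    intro k' hk'
    rw [Set.mem_singleton_iff.mp hk']
    have hcomm := (hB.hab P').is_comm.comm (⟨t * u, hkP'⟩ : P') ⟨x, hx⟩
    exact congrArg Subtype.val hcomm
  have hCeq : centralizer ({t * u} : Set G) = (P' : Subgroup G) := P'.is_maximal' hCkp hP'C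
  have huP' : u ∈ normalizer ((P' : Subgroup G) : Set G) := by
    apply Subgroup.mem_normalizer_fintype
    intro n hn
    have hn' : n ∈ (P' : Subgroup G) := hn
    rw [← hCeq] at hn'
    have hn'' := Subgroup.mem_centralizer_iff.mp hn' (t * u) rfl
    show u * n * u⁻¹ ∈ (P' : Subgroup G)
    rw [← hCeq, Subgroup.mem_centralizer_iff]
    intro k' hk'
    rw [Set.mem_singleton_iff.mp hk']
    have h1 : (u * n * u⁻¹) * (u * (t * u) * u⁻¹) = (u * (t * u) * u⁻¹) * (u * n * u⁻¹) := by
      have e1 : (u * n * u⁻¹) * (u * (t * u) * u⁻¹) = u * (n * (t * u)) * u⁻¹ := by group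
      have e2 : (u * (t * u) * u⁻¹) * (u * n * u⁻¹) = u * ((t * u) * n) * u⁻¹ := by group
      rw [e1, e2, hn'']
    rw [hku] at h1
    have e3 : (t * u) * (u * n * u⁻¹) =
        (t * u) * ((u * n * u⁻¹) * (t * u)⁻¹) * (t * u) := by group
    rw [e3, h1]; group
  exact hH P' u hu huP'

end Cfsg.Agent.Lib.Helper61.MixA2b
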