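import Mathlib
import Cfsg.Agent.Lib.Helper68.MixStmt

/-!
# S4017 piece EXP: in the boundary context `Q` has exponent 2.
-/

set_option autoImplicit false

namespace Cfsg.Agent.Lib.Helper61.MixEXP

open Cfsg.Agent.Lib.Helper68.MixStmt

universe u

theorem main : Cfsg.Agent.Lib.Helper68.MixStmt.EXP.{u} := by
  intro G _ _ p a Q y hB s hs
  have : Fact (Nat.Prime 2) := ⟨Nat.prime_two⟩
  have h2 : 2 ∣ Nat.card Q := by
    rw [hB.hQ]
    exact dvd_pow_self 2 (by have := hB.ha; omega)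
  obtain ⟨t, ht⟩ := exists_prime_orderOf_dvd_card' (G := ↥Q) 2 h2
  have ht1 : t ≠ 1 := by
    intro h
    rw [h, orderOf_one] at ht
    norm_num at ht
  have htt : t * t = 1 := by
    have h3 := pow_orderOf_eq_one t
    rw [ht, pow_two] at h3
    exact h3
  have ht1' : (t : G) ≠ 1 := fun h => ht1 (Subtype.ext h)
  have htt' : (t : G) * (t : G) = 1 := by
    have h4 := congrArg Subtype.val htt
    simpa using h4
  by_cases hs1 : s = 1
  · rw [hs1, one_mul]
  · obtain ⟨k, hk⟩ := hB.htrans (t : G) t.2 ht1' s hs hs1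
    rw [← hk]
    have e : y ^ k * (t : G) * (y ^ k)⁻¹ * (y ^ k * (t : G) * (y ^ k)⁻¹) =
        y ^ k * ((t : G) * (t : G)) * (y ^ k)⁻¹ := by group
    rw [e, htt']
    group

end Cfsg.Agent.Lib.Helper61.MixEXP
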