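import Mathlib
import Cfsg.Agent.Lib.Helper68.MixStmt

/-!
# S4017 piece NTOP: in the boundary context `Q` is not normal.
-/

set_option autoImplicit false

namespace Cfsg.Agent.Lib.Helper61.MixNTOP

open Cfsg.Agent.Lib.Helper68.MixStmt

universe u

theorem main : Cfsg.Agent.Lib.Helper68.MixStmt.NTOP.{u} := by
  intro G _ _ p a Q y hB htop
  have hQn : Q.Normal := Subgroup.normalizer_eq_top_iff.mp htop
  -- a prime `r ∉ {2, p}` dividing `|G|`
  have hnot := hB.hnot
  unfold PQNum at hnot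
  push Not at hnot
  obtain ⟨r, hr, hrG, hrp, hr2⟩ := hnot
  have : Fact r.Prime := ⟨hr⟩
  obtain ⟨R⟩ : Nonempty (Sylow r G) := inferInstance
  have hRcard : Nat.card R = r ^ (Nat.card G).factorization r := Sylow.card_eq_multiplicity R
  have hk : 1 ≤ (Nat.card G).factorization r :=
    (hr.factorization_pos_of_dvd Nat.card_pos.ne' hrG)
  -- `X = Q R`
  have hcardX : Nat.card (Q ⊔ (R : Subgroup G) : Subgroup G) =
      Nat.card Q * Q.relIndex (Q ⊔ (R : Subgroup G)) := by
    have h1 := Subgroup.relIndex_mul_relIndex ⊥ Q (Q ⊔ (R : Subgroup G)) bot_le le_sup_left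
    rw [Subgroup.relIndex_bot_left, Subgroup.relIndex_bot_left] at h1
    exact h1.symm
  have hrel : Q.relIndex (Q ⊔ (R : Subgroup G)) ∣ r ^ (Nat.card G).factorization r := by
    rw [Subgroup.relIndex_sup_left, ← hRcard]
    exact Subgroup.relIndex_dvd_card Q (R : Subgroup G)
  have h2X : 2 ∣ Nat.card (Q ⊔ (R : Subgroup G) : Subgroup G) := by
    rw [hcardX, hB.hQ]
    exact Dvd.dvd.mul_right (dvd_pow_self 2 (by have := hB.ha; omega)) _
  have hrX : r ∣ Nat.card (Q ⊔ (R : Subgroup G) : Subgroup G) := by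
    have h1 : Nat.card (R : Subgroup G) ∣ Nat.card (Q ⊔ (R : Subgroup G) : Subgroup G) :=
      Subgroup.card_dvd_of_le le_sup_right
    rw [hRcard] at h1
    exact dvd_trans (dvd_pow_self r (by omega)) h1
  by_cases hX : (Q ⊔ (R : Subgroup G) : Subgroup G) = ⊤
  · -- `|G| = 2^a * d`, `d ∣ r^k`, but `p ∣ |G|`
    have hpG := hB.hpG
    have hG : Nat.card G = Nat.card (Q ⊔ (R : Subgroup G) : Subgroup G) := by
      rw [hX, Subgroup.card_top]
    rw [hG, hcardX, hB.hQ] at hpG
    rcases (Nat.Prime.dvd_mul hB.hp).mp hpG with h | h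
    · have hp2 : p = 2 := (Nat.prime_dvd_prime_iff_eq hB.hp Nat.prime_two).mp
        (hB.hp.dvd_of_dvd_pow h)
      have hpa := hB.hpa
      obtain ⟨c, hc⟩ : 2 ∣ 2 ^ a := dvd_pow_self 2 (by have := hB.ha; omega)
      omega
    · have h' : p ∣ r ^ (Nat.card G).factorization r := dvd_trans h hrel
      have hpr : p = r := (Nat.prime_dvd_prime_iff_eq hB.hp hr).mp (hB.hp.dvd_of_dvd_pow h')
      exact hrp hpr.symm
  · rcases hB.hE _ hX h2X r hr hrX with h | h
    · exact hrp h
    · exact hr2 h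

end Cfsg.Agent.Lib.Helper61.MixNTOP
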