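import Mathlib
import Cfsg.Agent.Lib.Helper1.PDStmt

/-!
# S4020 piece COMMZ (helper61, second seat, for helper1's call)

`P` of order `p³`, `z` central in `P` of order `p`: conjugation in `P` moves `b` by a power of `z`.
-/

set_option autoImplicit false

namespace Cfsg.Agent.Lib.Helper61.PDCOMMZ

universe u

open Cfsg.Agent.Lib.Helper1.PDStmt

theorem main : CommZ.{u} := by
  intro X _ _ p _ P hcard z hz hzo hzc x hx b hb
  have hz'o : orderOf (⟨z, hz⟩ : P) = p := by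
    rw [Subgroup.orderOf_mk]
    exact hzo
  have hz'c : ∀ g : P, g * (⟨z, hz⟩ : P) = ⟨z, hz⟩ * g := by
    intro g
    apply Subtype.ext
    exact hzc g.1 g.2
  have hZn : (Subgroup.zpowers (⟨z, hz⟩ : P)).Normal := by
    constructor
    intro n hn g
    obtain ⟨k, rfl⟩ := Subgroup.mem_zpowers_iff.1 hn
    have hc : Commute g (⟨z, hz⟩ : P) := hz'c g
    have h1 : g * (⟨z, hz⟩ : P) ^ k * g⁻¹ = (⟨z, hz⟩ : P) ^ k := by
      rw [(hc.zpow_right k).eq, mul_inv_cancel_right]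
    rw [h1]
    exact hn
  have hZcard : Nat.card (Subgroup.zpowers (⟨z, hz⟩ : P)) = p := by
    rw [Nat.card_zpowers, hz'o]
  have hq : Nat.card (P ⧸ Subgroup.zpowers (⟨z, hz⟩ : P)) = p ^ 2 := by
    have h := Subgroup.card_eq_card_quotient_mul_card_subgroup (Subgroup.zpowers (⟨z, hz⟩ : P))
    rw [hcard, hZcard] at h
    have hp : 0 < p := (Fact.out : p.Prime).pos
    have h3 : p ^ 3 = p ^ 2 * p := by ring
    rw [h3] at h
    exact (Nat.eq_of_mul_eq_mul_right hp h).symm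
  have hcomm : ∀ u v : P ⧸ Subgroup.zpowers (⟨z, hz⟩ : P), u * v = v * u :=
    fun u v => (IsPGroup.isMulCommutative_of_card_eq_prime_sq hq).is_comm.comm u v
  have hmem : (⟨x, hx⟩ : P) * ⟨b, hb⟩ * (⟨x, hx⟩ : P)⁻¹ * (⟨b, hb⟩ : P)⁻¹ ∈
      Subgroup.zpowers (⟨z, hz⟩ : P) := by
    rw [← QuotientGroup.eq_one_iff]
    have h := hcomm ((⟨x, hx⟩ : P) : P ⧸ Subgroup.zpowers (⟨z, hz⟩ : P))
      ((⟨b, hb⟩ : P) : P ⧸ Subgroup.zpowers (⟨z, hz⟩ : P))
    simp only [QuotientGroup.mk_mul, QuotientGroup.mk_inv]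
    rw [h]
    group
  have hpow : (⟨x, hx⟩ : P) * ⟨b, hb⟩ * (⟨x, hx⟩ : P)⁻¹ * (⟨b, hb⟩ : P)⁻¹ ∈
      Submonoid.powers (⟨z, hz⟩ : P) := mem_powers_iff_mem_zpowers.2 hmem
  obtain ⟨a, ha⟩ := hpow
  refine ⟨a, ?_⟩
  have ha' : z ^ a = x * b * x⁻¹ * b⁻¹ := by
    have h := congrArg (Subtype.val) ha
    simpa using h
  have hcb : z ^ a * b = b * z ^ a := by
    have h : Commute b z := hzc b hb
    exact (h.pow_right a).eq.symm
  calc x * b * x⁻¹ = (x * b * x⁻¹ * b⁻¹) * b := by group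
    _ = z ^ a * b := by rw [ha']
    _ = b * z ^ a := hcb

end Cfsg.Agent.Lib.Helper61.PDCOMMZ
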