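import Mathlib
import Cfsg.Agent.Lib.Helper46.PUStmt

/-!
# S2263 piece AR1: the one-orbit inequality.
-/

set_option autoImplicit false

namespace Cfsg.Agent.Lib.Helper61.PUAR1

open Cfsg.Agent.Lib.Helper46.PUStmt

theorem clog_pow_le (p m k : ℕ) (hp : 2 ≤ p) (h : m ≤ p ^ k) : p ^ Nat.clog p m ≤ p ^ k :=
  Nat.pow_le_pow_right (by omega) (Nat.clog_le_of_le_pow h)

theorem le_two_pow (m : ℕ) (hm : 1 ≤ m) : m ≤ 2 ^ (m - 1) := by
  have h := @Nat.lt_two_pow_self (m - 1)
  omega

theorem add_four_le (k : ℕ) : k + 4 ≤ 2 ^ (k + 2) := by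
  induction k with
  | zero => norm_num
  | succ k ih =>
    have e : 2 ^ (k + 1 + 2) = 2 * 2 ^ (k + 2) := by rw [pow_succ]; ring
    omega

theorem le_two_pow2 (m : ℕ) (hm : 4 ≤ m) : m ≤ 2 ^ (m - 2) := by
  have h := add_four_le (m - 4)
  have e : m - 4 + 2 = m - 2 := by omega
  rw [e] at h
  omega

theorem main (h : NNFacts) : Ar1 := by
  intro p f a m hp hf ha hm ham hex
  have hp2 : 2 ≤ p := hp.two_le
  have hpq : p ≤ p ^ f := by
    calc p = p ^ 1 := (pow_one p).symm
      _ ≤ p ^ f := Nat.pow_le_pow_right (by omega) hf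
  have hq2 : 2 ≤ p ^ f := le_trans hp2 hpq
  have h4 : p = 2 → p ^ f ≠ 2 → 4 ≤ p ^ f := by
    intro hp2' hne
    subst hp2'
    have hf2 : 2 ≤ f := by
      by_contra hcon
      have hf1 : f = 1 := by omega
      subst hf1
      exact hne (by norm_num)
    calc 4 = 2 ^ 2 := by norm_num
      _ ≤ 2 ^ f := Nat.pow_le_pow_right (by norm_num) hf2
  obtain ⟨-, -, -, hL, hL2⟩ := h (p ^ f) a hq2 ha
  generalize p ^ f = q at *
  rcases Nat.eq_or_lt_of_le hm with hm1 | hm2
  · -- m = 1
    subst hm1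
    have e : a * 1 - 1 = a - 1 := by omega
    rw [Nat.clog_one_right, pow_zero, one_mul, e]
    exact hL2 (by omega)
  · by_cases ha2 : 2 ≤ a
    · -- a, m ≥ 2
      have hPle : p ^ Nat.clog p m ≤ q ^ (m - 1) := by
        have h1 : m ≤ p ^ (m - 1) :=
          le_trans (le_two_pow m hm) (Nat.pow_le_pow_left hp2 _)
        exact le_trans (clog_pow_le p m (m - 1) hp2 h1) (Nat.pow_le_pow_left hpq _)
      have hL2' := hL2 ha2
      have hP1 : 1 ≤ p ^ Nat.clog p m := Nat.one_le_pow _ _ (by omega)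
      have hexp : m - 1 + (a - 1) ≤ a * m - 1 := by
        obtain ⟨a', rfl⟩ : ∃ a', a = a' + 1 := ⟨a - 1, by omega⟩
        obtain ⟨m', rfl⟩ : ∃ m', m = m' + 1 := ⟨m - 1, by omega⟩
        have e : (a' + 1) * (m' + 1) = a' * m' + a' + m' + 1 := by ring
        rw [e]
        simp only [Nat.add_sub_cancel]
        omega
      calc p ^ Nat.clog p m * (nn q a / (q + 1)) + 1
          ≤ p ^ Nat.clog p m * (nn q a / (q + 1)) + p ^ Nat.clog p m := by omega
        _ = p ^ Nat.clog p m * (nn q a / (q + 1) + 1) := by ring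
        _ ≤ q ^ (m - 1) * q ^ (a - 1) := Nat.mul_le_mul hPle hL2'
        _ = q ^ (m - 1 + (a - 1)) := (pow_add q _ _).symm
        _ ≤ q ^ (a * m - 1) := Nat.pow_le_pow_right (by omega) hexp
    · -- a = 1, m ≥ 3
      have ha1 : a = 1 := by omega
      subst ha1
      have hm3 : 3 ≤ m := by omega
      have hLeq : nn q 1 / (q + 1) = 1 := by
        unfold nn
        rw [if_neg Nat.not_even_one, pow_one]
        exact Nat.div_self (by omega)
      have e : 1 * m - 1 = m - 1 := by omega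
      rw [hLeq, mul_one, e]
      by_cases hm4 : 4 ≤ m
      · have hPle : p ^ Nat.clog p m ≤ q ^ (m - 2) := by
          have h1 : m ≤ p ^ (m - 2) :=
            le_trans (le_two_pow2 m hm4) (Nat.pow_le_pow_left hp2 _)
          exact le_trans (clog_pow_le p m (m - 2) hp2 h1) (Nat.pow_le_pow_left hpq _)
        have hstep : q ^ (m - 1) = q ^ (m - 2) * q := by
          rw [← pow_succ]; congr 1; omega
        have hpos' : 1 ≤ q ^ (m - 2) := Nat.one_le_pow _ _ (by omega)
        rw [hstep]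
        nlinarith
      · have hm3' : m = 3 := by omega
        subst hm3'
        have e2 : (3 : ℕ) - 1 = 2 := by norm_num
        rw [e2]
        by_cases hp3 : 3 ≤ p
        · have hPle : p ^ Nat.clog p 3 ≤ p ^ 1 :=
            clog_pow_le p 3 1 hp2 (by rw [pow_one]; exact hp3)
          rw [pow_one] at hPle
          nlinarith
        · have hp2' : p = 2 := by omega
          have hq4 : 4 ≤ q := h4 hp2' (fun hq => hex ⟨by norm_num, hq⟩)
          subst hp2'
          have hPle : 2 ^ Nat.clog 2 3 ≤ 2 ^ 2 := clog_pow_le 2 3 2 (by norm_num) (by norm_num)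
          nlinarith

end Cfsg.Agent.Lib.Helper61.PUAR1
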