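import Mathlib
import Cfsg.Agent.Lib.Helper56.Schreier

/-!
# Kernel-checkable certificates for permutation groups on 100 points

Permutations of `Fin 100` are packed into one natural number (7 bits per point), tables of
permutations into one natural number (700 bits per entry); all certificate checks are
`Bool`-valued functions on naturals and lists of naturals, meant to be discharged by
`decide +kernel` (the loops are written with recursors, which the kernel evaluates fast).
The soundness theorems give the order of the generated group (verified stabiliser chain, via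
`Helper56.Schreier`), its point stabilisers and orbits, and a primitivity certificate.
-/

set_option autoImplicit false

namespace Cfsg.Agent.Lib.Helper61.PermCert

open Cfsg.Agent.Lib.Helper56

/-- Image of `i` under the packed map `P` (7 bits per point), forced below `100`. -/
def ap (P i : Nat) : Nat := Nat.mod (Nat.land (Nat.shiftRight P (Nat.mul 7 i)) 127) 100

theorem ap_lt (P i : Nat) : ap P i < 100 := Nat.mod_lt _ (by norm_num)

/-- Entry `j` of a packed table (700 bits per entry). -/
def ent (T j : Nat) : Nat :=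
  Nat.land (Nat.shiftRight T (Nat.mul 700 j)) (Nat.sub (Nat.pow 2 700) 1)

abbrev Pm := Equiv.Perm (Fin 100)

/-- The point of `Fin 100` with number `b`. -/
def pt (b : Nat) : Fin 100 := ⟨b % 100, Nat.mod_lt _ (by norm_num)⟩

theorem pt_val {b : Nat} (h : b < 100) : ((pt b : Fin 100) : ℕ) = b := Nat.mod_eq_of_lt h

theorem pt_coe (x : Fin 100) : pt (x : ℕ) = x := Fin.ext (Nat.mod_eq_of_lt x.2)

def fn (P : Nat) : Fin 100 → Fin 100 := fun i => ⟨ap P i, ap_lt P i⟩

open Classical in
/-- The permutation packed in `P` (the identity if `P` is not injective). -/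
noncomputable def toPerm (P : Nat) : Pm :=
  if h : Function.Injective (fn P) then
    Equiv.ofBijective (fn P) ⟨h, Finite.surjective_of_injective h⟩
  else 1

theorem toPerm_apply {P : Nat} (h : Function.Injective (fn P)) (i : Fin 100) :
    toPerm P i = fn P i := by
  unfold toPerm
  rw [dif_pos h]
  rfl

/-- A check over all numbers below `n` (a recursor loop). -/
noncomputable def allN (n : Nat) (f : Nat → Bool) : Bool :=
  Nat.rec true (fun k ih => and (f k) ih) n

theorem allN_succ (n : Nat) (f : Nat → Bool) : allN (n + 1) f = (f n && allN n f) := rfl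

theorem allN_iff (n : Nat) (f : Nat → Bool) : allN n f = true ↔ ∀ p < n, f p = true := by
  induction n with
  | zero => exact ⟨fun _ p hp => absurd hp (Nat.not_lt_zero p), fun _ => rfl⟩
  | succ n ih =>
    rw [allN_succ, Bool.and_eq_true, ih]
    constructor
    · rintro ⟨h1, h2⟩ p hp
      rcases Nat.lt_succ_iff_lt_or_eq.1 hp with h | h
      · exact h2 p h
      · rw [h]; exact h1
    · intro h
      exact ⟨h n (Nat.lt_succ_self n), fun p hp => h p (Nat.lt_succ_of_lt hp)⟩

/-- A check over all points. -/
noncomputable def allP (f : Nat → Bool) : Bool := allN 100 f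

theorem allP_iff (f : Nat → Bool) : allP f = true ↔ ∀ p < 100, f p = true := allN_iff 100 f

/-- The packed identity. -/
def idP : Nat := (List.range 100).foldr (fun i acc => acc * 128 + i) 0

theorem ap_idP : ∀ p < 100, ap idP p = p := by decide +kernel

theorem fn_idP_inj : Function.Injective (fn idP) := by
  intro i j h
  have h' := congrArg Fin.val h
  simp only [fn] at h'
  rw [ap_idP i i.2, ap_idP j j.2] at h'
  exact Fin.ext h'

section gens

variable (GP : List Nat)

/-- The packed permutation of letter `a`. -/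
def lp (a : Nat) : Nat := GP.getD a idP

/-- Action of a word (leftmost letter applied last) on a point. -/
noncomputable def actW (w : List Nat) (p : Nat) : Nat :=
  List.rec p (fun a _ ih => ap (lp GP a) ih) w

/-- The permutation of a letter. -/
noncomputable def gp (a : Nat) : Pm := toPerm (lp GP a)

/-- The permutation of a word. -/
noncomputable def evalW (w : List Nat) : Pm := (w.map (gp GP)).prod

/-- Generator table check: letter `a ^^^ 1` is a left inverse of letter `a`. -/
noncomputable def gok : Bool :=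
  allN GP.length fun a => allP fun i => Nat.beq (ap (lp GP (a ^^^ 1)) (ap (lp GP a) i)) i

variable {GP}

theorem lp_inj (h : gok GP = true) (a : Nat) : Function.Injective (fn (lp GP a)) := by
  by_cases ha : a < GP.length
  · unfold gok at h
    have h1 := (allP_iff _).1 ((allN_iff _ _).1 h a ha)
    intro i j hij
    have h' := congrArg Fin.val hij
    simp only [fn] at h'
    have hi := Nat.eq_of_beq_eq_true (h1 i i.2)
    have hj := Nat.eq_of_beq_eq_true (h1 j j.2)
    rw [h', hj] at hi
    exact Fin.ext hi.symm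
  · have : lp GP a = idP := by
      unfold lp
      exact List.getD_eq_default _ _ (not_lt.1 ha)
    rw [this]
    exact fn_idP_inj

theorem gp_apply (h : gok GP = true) (a : Nat) (i : Fin 100) :
    ((gp GP a i : Fin 100) : ℕ) = ap (lp GP a) i := by
  unfold gp
  rw [toPerm_apply (lp_inj h a)]
  rfl

theorem evalW_nil : evalW GP [] = 1 := rfl

theorem evalW_cons (a : Nat) (w : List Nat) : evalW GP (a :: w) = gp GP a * evalW GP w := by
  unfold evalW
  rw [List.map_cons, List.prod_cons]

theorem actW_cons (a : Nat) (w : List Nat) (p : Nat) :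
    actW GP (a :: w) p = ap (lp GP a) (actW GP w p) := rfl

theorem evalW_apply (h : gok GP = true) (w : List Nat) (i : Fin 100) :
    ((evalW GP w i : Fin 100) : ℕ) = actW GP w i := by
  induction w with
  | nil => rfl
  | cons a w ih =>
    rw [evalW_cons, Equiv.Perm.mul_apply, gp_apply h, ih, actW_cons]

theorem evalW_append (w1 w2 : List Nat) : evalW GP (w1 ++ w2) = evalW GP w1 * evalW GP w2 := by
  unfold evalW
  rw [List.map_append, List.prod_append]

theorem evalW_replicate (n a : Nat) : evalW GP (List.replicate n a) = gp GP a ^ n := by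
  unfold evalW
  rw [List.map_replicate, List.prod_replicate]

/-- letter `a ^^^ 1` is the inverse of letter `a` -/
theorem gp_xor (h : gok GP = true) {a : Nat} (ha : a < GP.length) :
    gp GP (a ^^^ 1) = (gp GP a)⁻¹ := by
  rw [eq_inv_iff_mul_eq_one]
  ext p
  rw [Equiv.Perm.mul_apply, gp_apply h, gp_apply h, Equiv.Perm.one_apply]
  unfold gok at h
  exact Nat.eq_of_beq_eq_true ((allP_iff _).1 ((allN_iff _ _).1 h a ha) p p.2)

/-- a word identity checked pointwise -/
theorem evalW_eq_of (h : gok GP = true) {w1 w2 : List Nat}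
    (hw : (allP fun p => Nat.beq (actW GP w1 p) (actW GP w2 p)) = true) :
    evalW GP w1 = evalW GP w2 := by
  ext p
  rw [evalW_apply h, evalW_apply h]
  exact Nat.eq_of_beq_eq_true ((allP_iff _).1 hw p p.2)

variable (GP)

/-- The generating set attached to a list of letters. -/
def gset (A : List Nat) : Set Pm := {g | ∃ a ∈ A, gp GP a = g}

/-- The group generated by a list of letters. -/
def Hg (A : List Nat) : Subgroup Pm := Subgroup.closure (gset GP A)

variable {GP}

theorem gp_mem {A : List Nat} {a : Nat} (ha : a ∈ A) : gp GP a ∈ Hg GP A :=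
  Subgroup.subset_closure ⟨a, ha, rfl⟩

theorem evalW_mem_of {K : Subgroup Pm} (w : List Nat) (hw : ∀ a ∈ w, gp GP a ∈ K) :
    evalW GP w ∈ K := by
  induction w with
  | nil => exact K.one_mem
  | cons a w ih =>
    rw [evalW_cons]
    exact K.mul_mem (hw a (List.mem_cons_self ..))
      (ih fun b hb => hw b (List.mem_cons_of_mem _ hb))

theorem evalW_mem {A : List Nat} (w : List Nat) (hw : ∀ a ∈ w, a ∈ A) :
    evalW GP w ∈ Hg GP A :=
  evalW_mem_of w fun a ha => gp_mem (hw a ha)

theorem Hg_nil : Hg GP [] = ⊥ := by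
  unfold Hg gset
  simp

/-- The packed map `P` is realised by an element of `K`. -/
def Real (K : Subgroup Pm) (P : Nat) : Prop :=
  ∃ g ∈ K, ∀ p : Fin 100, ((g p : Fin 100) : ℕ) = ap P p

theorem Real.mono {K K' : Subgroup Pm} (h : K ≤ K') {P : Nat} (hP : Real K P) : Real K' P := by
  obtain ⟨g, hg, hgp⟩ := hP
  exact ⟨g, h hg, hgp⟩

theorem real_idP (K : Subgroup Pm) : Real K idP :=
  ⟨1, K.one_mem, fun p => (ap_idP p p.2).symm⟩

theorem real_lp (h : gok GP = true) {K : Subgroup Pm} {a : Nat} (ha : gp GP a ∈ K) :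
    Real K (lp GP a) :=
  ⟨gp GP a, ha, fun p => gp_apply h a p⟩

/-- Action of a sifted residue: one entry from each deeper transversal table (given with its
size); the entry numbers are the base-128 digits of `ks`. -/
noncomputable def rowAct (D : List (Nat × Nat)) : Nat → Nat → Nat :=
  List.rec (fun _ p => p)
    (fun T _ ih ks p => ap (ent T.1 (Nat.mod ks 128)) (ih (Nat.div ks 128) p)) D

theorem rowAct_cons (T : Nat × Nat) (D : List (Nat × Nat)) (ks p : Nat) :
    rowAct (T :: D) ks p = ap (ent T.1 (Nat.mod ks 128)) (rowAct D (Nat.div ks 128) p) := rfl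

/-- The digits of `ks` are within the sizes of the tables. -/
noncomputable def rowIn (D : List (Nat × Nat)) : Nat → Bool :=
  List.rec (fun _ => true)
    (fun T _ ih ks => and (Nat.blt (Nat.mod ks 128) T.2) (ih (Nat.div ks 128))) D

theorem rowIn_cons (T : Nat × Nat) (D : List (Nat × Nat)) (ks : Nat) :
    rowIn (T :: D) ks = (Nat.blt (Nat.mod ks 128) T.2 && rowIn D (Nat.div ks 128)) := rfl

theorem rowAct_real {K : Subgroup Pm} (D : List (Nat × Nat))
    (hD : ∀ T ∈ D, ∀ k < T.2, Real K (ent T.1 k)) (ks : Nat) (hks : rowIn D ks = true) :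
    ∃ g ∈ K, ∀ p : Fin 100, ((g p : Fin 100) : ℕ) = rowAct D ks p := by
  induction D generalizing ks with
  | nil => exact ⟨1, K.one_mem, fun p => rfl⟩
  | cons T D ih =>
    rw [rowIn_cons, Bool.and_eq_true] at hks
    obtain ⟨g, hg, hgp⟩ := ih (fun T' hT' => hD T' (List.mem_cons_of_mem _ hT')) _ hks.2
    have hlt : Nat.mod ks 128 < T.2 := by
      have := hks.1
      rw [Nat.blt_eq] at this
      exact this
    obtain ⟨g', hg', hgp'⟩ := hD T (List.mem_cons_self ..) _ hlt
    refine ⟨g' * g, K.mul_mem hg' hg, fun p => ?_⟩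
    rw [Equiv.Perm.mul_apply, hgp', hgp, rowAct_cons]

/-- The data of one level of a stabiliser chain. -/
structure Lvl where
  /-- letters generating this level -/
  A : List Nat
  /-- packed transversal table -/
  U : Nat
  /-- number of transversal entries -/
  n : Nat
  /-- words (over `A`) of the transversal elements -/
  W : List (List Nat)
  /-- base point -/
  b : Nat
  /-- letters generating the next level -/
  A' : List Nat
  /-- words (over `A`) of the next level's letters -/
  WA : List (List Nat)
  /-- deeper transversal tables (packed), with their sizes -/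
  D : List (Nat × Nat)
  /-- Schreier rows, one packed number per letter (64 bits per transversal entry): for letter
  number `ia` and transversal entry `j`, the row `j' + 128 * ks` says
  `g * u_j = u_j' * (residue ks)` -/
  C : List Nat

/-- the Schreier row of letter number `ia` and transversal entry `j` -/
def Lvl.row (L : Lvl) (ia j : Nat) : Nat :=
  Nat.land (Nat.shiftRight (L.C.getD ia 0) (Nat.mul 64 j)) (Nat.sub (Nat.pow 2 64) 1)

variable (GP)

/-- transversal entries agree with their words, and the words are over `A` -/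
noncomputable def Lvl.consOK (L : Lvl) : Bool :=
  allN L.n fun j =>
    (L.W.getD j []).all (fun a => L.A.contains a) &&
      allP fun p => Nat.beq (ap (ent L.U j) p) (actW GP (L.W.getD j []) p)

/-- next level letters agree with their words over `A` and fix the base point -/
noncomputable def Lvl.subOK (L : Lvl) : Bool :=
  allN L.A'.length fun k =>
    (L.WA.getD k []).all (fun a => L.A.contains a) &&
      (allP fun p => Nat.beq (ap (lp GP (L.A'.getD k 0)) p) (actW GP (L.WA.getD k []) p)) &&
      Nat.beq (ap (lp GP (L.A'.getD k 0)) L.b) L.b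

/-- the Schreier rows -/
noncomputable def Lvl.rowsOK (L : Lvl) : Bool :=
  allN L.A.length fun ia =>
    allN L.n fun j =>
      Nat.blt (Nat.mod (L.row ia j) 128) L.n && rowIn L.D (Nat.div (L.row ia j) 128) &&
        allP fun p =>
          Nat.beq (ap (lp GP (L.A.getD ia 0)) (ap (ent L.U j) p))
            (ap (ent L.U (Nat.mod (L.row ia j) 128)) (rowAct L.D (Nat.div (L.row ia j) 128) p))

/-- the full level check -/
noncomputable def Lvl.ok (L : Lvl) : Bool :=
  decide (L.b < 100) && decide (0 < L.n) && (L.W.getD 0 [1]).isEmpty &&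
    L.consOK GP && ((List.range L.n).map fun j => ap (ent L.U j) L.b).Nodup && L.subOK GP &&
    L.rowsOK GP

variable {GP}

section level

variable (L : Lvl) (hG : gok GP = true) (hL : L.ok GP = true)

include hL in
theorem Lvl.ok_parts : L.b < 100 ∧ 0 < L.n ∧ L.W.getD 0 [1] = [] ∧
    L.consOK GP = true ∧ ((List.range L.n).map fun j => ap (ent L.U j) L.b).Nodup ∧
    L.subOK GP = true ∧ L.rowsOK GP = true := by
  unfold Lvl.ok at hL
  simp only [Bool.and_eq_true, decide_eq_true_eq, List.isEmpty_iff] at hL
  obtain ⟨⟨⟨⟨⟨⟨h1, h2⟩, h3⟩, h4⟩, h5⟩, h6⟩, h7⟩ := hL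
  exact ⟨h1, h2, h3, h4, h5, h6, h7⟩

/-- the word of transversal entry `j` -/
def Lvl.word (j : Nat) : List Nat := L.W.getD j []

include hL in
theorem Lvl.word_zero : L.word 0 = [] := by
  have h := (L.ok_parts hL).2.2.1
  unfold Lvl.word
  by_cases h0 : 0 < L.W.length
  · rw [List.getD_eq_getElem _ _ h0] at h ⊢
    exact h
  · rw [List.getD_eq_default _ _ (not_lt.1 h0)] at h
    exact absurd h (by simp)

include hL in
theorem Lvl.cons_spec {j : Nat} (hj : j < L.n) :
    (∀ a ∈ L.word j, a ∈ L.A) ∧ ∀ p < 100, ap (ent L.U j) p = actW GP (L.word j) p := by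
  have h := (L.ok_parts hL).2.2.2.1
  unfold Lvl.consOK at h
  have hj' := (allN_iff _ _).1 h j hj
  rw [Bool.and_eq_true, List.all_eq_true] at hj'
  refine ⟨fun a ha => ?_, fun p hp => ?_⟩
  · have := hj'.1 a ha
    simpa using this
  · exact Nat.eq_of_beq_eq_true ((allP_iff _).1 hj'.2 p hp)

include hG hL in
theorem Lvl.evalW_word {j : Nat} (hj : j < L.n) (p : Fin 100) :
    ((evalW GP (L.word j) p : Fin 100) : ℕ) = ap (ent L.U j) p := by
  rw [evalW_apply hG, ((L.cons_spec hL hj).2 p p.2)]

include hL in
theorem Lvl.word_mem {j : Nat} (hj : j < L.n) : evalW GP (L.word j) ∈ Hg GP L.A :=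
  evalW_mem _ (L.cons_spec hL hj).1

include hG hL in
/-- every transversal entry is realised in the level group -/
theorem Lvl.real : ∀ j < L.n, Real (Hg GP L.A) (ent L.U j) :=
  fun j hj => ⟨evalW GP (L.word j), L.word_mem hL hj, fun p => L.evalW_word hG hL hj p⟩

include hL in
theorem Lvl.sub_spec {k : Nat} (hk : k < L.A'.length) :
    (∀ a ∈ L.WA.getD k [], a ∈ L.A) ∧
      (∀ p < 100, ap (lp GP (L.A'.getD k 0)) p = actW GP (L.WA.getD k []) p) ∧
      ap (lp GP (L.A'.getD k 0)) L.b = L.b := by
  have h := (L.ok_parts hL).2.2.2.2.2.1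
  unfold Lvl.subOK at h
  have hk' := (allN_iff _ _).1 h k hk
  rw [Bool.and_eq_true, Bool.and_eq_true, List.all_eq_true] at hk'
  refine ⟨fun a ha => ?_, fun p hp => ?_, ?_⟩
  · have := hk'.1.1 a ha
    simpa using this
  · exact Nat.eq_of_beq_eq_true ((allP_iff _).1 hk'.1.2 p hp)
  · exact Nat.eq_of_beq_eq_true hk'.2

include hG hL in
/-- the next level's letters lie in this level's group -/
theorem Lvl.gp_next {a : Nat} (ha : a ∈ L.A') : gp GP a ∈ Hg GP L.A := by
  obtain ⟨k, hk, rfl⟩ := List.mem_iff_getElem.1 ha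
  obtain ⟨h1, h2, -⟩ := L.sub_spec hL hk
  rw [List.getD_eq_getElem _ _ hk] at h2
  have : gp GP L.A'[k] = evalW GP (L.WA.getD k []) := by
    ext p
    rw [gp_apply hG, evalW_apply hG, h2 p p.2]
  rw [this]
  exact evalW_mem _ h1

include hG hL in
theorem Lvl.le : Hg GP L.A' ≤ Hg GP L.A := by
  unfold Hg
  rw [Subgroup.closure_le]
  rintro g ⟨a, ha, rfl⟩
  exact L.gp_next hG hL ha

include hG hL in
/-- the next level's group fixes the base point -/
theorem Lvl.fix : ∀ h ∈ Hg GP L.A', h (pt L.b) = pt L.b := by
  have hb := (L.ok_parts hL).1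
  have : Hg GP L.A' ≤ MulAction.stabilizer Pm (pt L.b) := by
    unfold Hg
    rw [Subgroup.closure_le]
    rintro g ⟨a, ha, rfl⟩
    obtain ⟨k, hk, rfl⟩ := List.mem_iff_getElem.1 ha
    obtain ⟨-, -, h3⟩ := L.sub_spec hL hk
    rw [List.getD_eq_getElem _ _ hk] at h3
    show gp GP L.A'[k] (pt L.b) = pt L.b
    apply Fin.ext
    rw [gp_apply hG, pt_val hb, h3]
  exact fun h hh => this hh

/-- the list of transversal elements -/
noncomputable def Lvl.elts (GP : List Nat) (L : Lvl) : List Pm :=
  (List.range L.n).map fun j => evalW GP (L.word j)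

include hL in
theorem Lvl.one_mem_elts : (1 : Pm) ∈ L.elts GP := by
  unfold Lvl.elts
  rw [List.mem_map]
  exact ⟨0, List.mem_range.2 (L.ok_parts hL).2.1, by rw [L.word_zero hL]; rfl⟩

include hG hL in
theorem Lvl.elts_nodup : ((L.elts GP).map fun u : Pm => u • pt L.b).Nodup := by
  have hb := (L.ok_parts hL).1
  have hnd := (L.ok_parts hL).2.2.2.2.1
  unfold Lvl.elts
  rw [List.map_map]
  apply List.Nodup.of_map (Fin.val : Fin 100 → ℕ)
  rw [List.map_map]
  have : (List.range L.n).map (Fin.val ∘ ((fun u : Pm => u • pt L.b) ∘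
      fun j => evalW GP (L.word j))) = (List.range L.n).map fun j => ap (ent L.U j) L.b := by
    apply List.map_congr_left
    intro j hj
    rw [List.mem_range] at hj
    simp only [Function.comp]
    rw [Equiv.Perm.smul_def, L.evalW_word hG hL hj, pt_val hb]
  rw [this]
  exact hnd

include hG hL in
theorem Lvl.schreier (hD : ∀ T ∈ L.D, ∀ k < T.2, Real (Hg GP L.A') (ent T.1 k)) :
    ∀ g ∈ gset GP L.A, ∀ u ∈ L.elts GP, ∃ u' ∈ L.elts GP, u'⁻¹ * (g * u) ∈ Hg GP L.A' := by
  rintro g ⟨a, ha, rfl⟩ u hu
  unfold Lvl.elts at hu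
  rw [List.mem_map] at hu
  obtain ⟨j, hj, rfl⟩ := hu
  rw [List.mem_range] at hj
  obtain ⟨ia, hia, rfl⟩ := List.mem_iff_getElem.1 ha
  have h := (L.ok_parts hL).2.2.2.2.2.2
  unfold Lvl.rowsOK at h
  have h2 := (allN_iff _ _).1 ((allN_iff _ _).1 h ia hia) j hj
  rw [Bool.and_eq_true, Bool.and_eq_true] at h2
  obtain ⟨⟨hj', hin⟩, h3⟩ := h2
  rw [Nat.blt_eq] at hj'
  have h4 := (allP_iff _).1 h3
  obtain ⟨r, hr, hrp⟩ := rowAct_real L.D hD _ hin
  refine ⟨evalW GP (L.word (Nat.mod (L.row ia j) 128)), ?_, ?_⟩
  · unfold Lvl.elts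
    rw [List.mem_map]
    exact ⟨_, List.mem_range.2 hj', rfl⟩
  · have e : gp GP L.A[ia] * evalW GP (L.word j) =
        evalW GP (L.word (Nat.mod (L.row ia j) 128)) * r := by
      ext p
      rw [Equiv.Perm.mul_apply, Equiv.Perm.mul_apply, gp_apply hG, L.evalW_word hG hL hj,
        L.evalW_word hG hL hj', hrp]
      have := Nat.eq_of_beq_eq_true (h4 p p.2)
      rw [List.getD_eq_getElem _ _ hia] at this
      exact this
    rw [e, inv_mul_cancel_left]
    exact hr

include hG hL in
/-- order of the level group -/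
theorem Lvl.card (hD : ∀ T ∈ L.D, ∀ k < T.2, Real (Hg GP L.A') (ent T.1 k)) :
    Nat.card (Hg GP L.A) = L.n * Nat.card (Hg GP L.A') := by
  have := Schreier.card (gset GP L.A) (Hg GP L.A') (pt L.b) (L.elts GP) (L.one_mem_elts hL)
    (L.schreier hG hL hD) (L.fix hG hL) (L.elts_nodup hG hL) (L.le hG hL) (by
      intro u hu
      unfold Lvl.elts at hu
      rw [List.mem_map] at hu
      obtain ⟨j, hj, rfl⟩ := hu
      exact L.word_mem hL (List.mem_range.1 hj))
  unfold Hg at this ⊢
  rw [this]
  unfold Lvl.elts
  rw [List.length_map, List.length_range]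

include hG hL in
/-- the stabiliser of the base point in the level group is the next level group -/
theorem Lvl.stab (hD : ∀ T ∈ L.D, ∀ k < T.2, Real (Hg GP L.A') (ent T.1 k)) :
    ∀ k ∈ Hg GP L.A, k (pt L.b) = pt L.b → k ∈ Hg GP L.A' :=
  Schreier.stab (gset GP L.A) (Hg GP L.A') (pt L.b) (L.elts GP) (L.one_mem_elts hL)
    (L.schreier hG hL hD) (L.fix hG hL) (L.elts_nodup hG hL)

include hG hL in
/-- the orbit of the base point under the level group is read off the transversal -/
theorem Lvl.orbit (hD : ∀ T ∈ L.D, ∀ k < T.2, Real (Hg GP L.A') (ent T.1 k)) :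
    ∀ k ∈ Hg GP L.A, ∃ j < L.n, ((k (pt L.b) : Fin 100) : ℕ) = ap (ent L.U j) L.b := by
  intro k hk
  have hb := (L.ok_parts hL).1
  obtain ⟨u, hu, huk⟩ := Schreier.orbit (gset GP L.A) (Hg GP L.A') (pt L.b) (L.elts GP)
    (L.one_mem_elts hL) (L.schreier hG hL hD) (L.fix hG hL) k hk
  unfold Lvl.elts at hu
  rw [List.mem_map] at hu
  obtain ⟨j, hj, rfl⟩ := hu
  rw [List.mem_range] at hj
  refine ⟨j, hj, ?_⟩
  rw [Equiv.Perm.smul_def, Equiv.Perm.smul_def] at huk
  rw [huk, L.evalW_word hG hL hj, pt_val hb]

include hL in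
/-- the first transversal entry fixes the base point -/
theorem Lvl.ent_zero : ap (ent L.U 0) L.b = L.b := by
  have hb := (L.ok_parts hL).1
  have h := (L.cons_spec hL (L.ok_parts hL).2.1).2 L.b hb
  rw [h, L.word_zero hL]
  rfl

include hG hL in
/-- the point stabiliser of the level group, as a subgroup of it -/
theorem Lvl.stab_eq (hD : ∀ T ∈ L.D, ∀ k < T.2, Real (Hg GP L.A') (ent T.1 k)) :
    MulAction.stabilizer ↥(Hg GP L.A) (pt L.b) = (Hg GP L.A').subgroupOf (Hg GP L.A) := by
  ext ⟨k, hk⟩
  rw [MulAction.mem_stabilizer_iff, Subgroup.mem_subgroupOf]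
  constructor
  · intro h
    exact L.stab hG hL hD k hk h
  · intro h
    exact L.fix hG hL k h

include hG hL in
/-- the length of the orbit of the base point -/
theorem Lvl.ncard_orbit (hD : ∀ T ∈ L.D, ∀ k < T.2, Real (Hg GP L.A') (ent T.1 k)) :
    (MulAction.orbit ↥(Hg GP L.A) (pt L.b)).ncard = L.n := by
  rw [← MulAction.index_stabilizer, L.stab_eq hG hL hD]
  have h1 := Subgroup.card_mul_index ((Hg GP L.A').subgroupOf (Hg GP L.A))
  have h2 : Nat.card ((Hg GP L.A').subgroupOf (Hg GP L.A)) = Nat.card (Hg GP L.A') :=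
    Nat.card_congr (Subgroup.subgroupOfEquivOfLe (L.le hG hL)).toEquiv
  rw [h2, L.card hG hL hD] at h1
  have hpos : 0 < Nat.card (Hg GP L.A') := Nat.card_pos
  exact Nat.eq_of_mul_eq_mul_left hpos (by rw [h1, mul_comm])

end level

/-! ### Primitivity certificates -/

/-- one derivation step: if the rule element number `e` (of the packed table `E` with `nE`
entries) maps the base point into the set and `x` is in the set, add the image of `x` -/
def dstep (E nE b m e x : Nat) : Nat :=
  if e < nE && m.testBit (ap (ent E e) b) && m.testBit x then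
    m ||| (1 <<< ap (ent E e) x)
  else 0

/-- run a packed derivation (steps are base-`16384` digits `(e + 1) * 128 + x`) -/
def deriv (E nE b : Nat) : Nat → Nat → Nat → Nat
  | 0, _, m => m
  | f + 1, c, m =>
    if c = 0 then m
    else deriv E nE b f (c / 16384) (dstep E nE b m ((c % 16384) / 128 - 1) ((c % 16384) % 128))

/-- for every non-base point `s` of the orbit, the derivation from `{b, s}` reaches the
whole orbit -/
def primOK (U nU E nE b full : Nat) (PC : List Nat) : Bool :=
  ((List.range nU).all fun j => j == 0 ||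
      deriv E nE b 128 (PC.getD j 0) ((1 <<< b) ||| (1 <<< ap (ent U j) b)) == full) &&
    (List.range nU).all fun j => full.testBit (ap (ent U j) b)

theorem testBit_or_bit {m y x : Nat} (h : (m ||| (1 <<< y)).testBit x = true) :
    m.testBit x = true ∨ x = y := by
  rw [Nat.testBit_or, Bool.or_eq_true] at h
  rcases h with h | h
  · exact Or.inl h
  · right
    rw [Nat.one_shiftLeft, Nat.testBit_two_pow] at h
    exact (of_decide_eq_true h).symm

section prim

variable {K : Subgroup Pm} {E nE b : Nat} (hE : ∀ e < nE, Real K (ent E e)) (hb : b < 100)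
  (B : Set (Fin 100)) (hblk : ∀ g ∈ K, g (pt b) ∈ B → ∀ s ∈ B, g s ∈ B)

include hE hb hblk in
theorem dstep_good {m : Nat} (hm : ∀ x, m.testBit x = true → x < 100 ∧ pt x ∈ B) (e x : Nat) :
    ∀ y, (dstep E nE b m e x).testBit y = true → y < 100 ∧ pt y ∈ B := by
  intro y hy
  unfold dstep at hy
  split_ifs at hy with hc
  · simp only [Bool.and_eq_true, decide_eq_true_eq] at hc
    obtain ⟨⟨he, h1⟩, h2⟩ := hc
    rcases testBit_or_bit hy with h | h
    · exact hm y h
    · obtain ⟨g, hg, hgp⟩ := hE e he
      have hgb : g (pt b) = pt (ap (ent E e) b) := by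
        apply Fin.ext
        rw [hgp, pt_val hb, pt_val (ap_lt _ _)]
      have hx := hm x h2
      have hgx : g (pt x) = pt (ap (ent E e) x) := by
        apply Fin.ext
        rw [hgp, pt_val hx.1, pt_val (ap_lt _ _)]
      have := hblk g hg (by rw [hgb]; exact (hm _ h1).2) (pt x) hx.2
      rw [hgx] at this
      rw [h]
      exact ⟨ap_lt _ _, this⟩
  · rw [Nat.zero_testBit] at hy
    exact absurd hy (by simp)

include hE hb hblk in
theorem deriv_good (f : Nat) : ∀ (c m : Nat), (∀ x, m.testBit x = true → x < 100 ∧ pt x ∈ B) →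
    ∀ y, (deriv E nE b f c m).testBit y = true → y < 100 ∧ pt y ∈ B := by
  induction f with
  | zero => intro c m hm; exact hm
  | succ f ih =>
    intro c m hm
    unfold deriv
    split_ifs with hc
    · exact hm
    · exact ih _ _ (dstep_good hE hb B hblk hm _ _)

include hE hb hblk in
/-- soundness of the primitivity certificate: a set containing the base point and one more
point of the orbit, and mapped into itself by every element of `K` that maps the base point
into it, contains the whole orbit -/
theorem prim_cert {U nU full : Nat} {PC : List Nat}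
    (hc : primOK U nU E nE b full PC = true) (hω : pt b ∈ B)
    (j : Nat) (hj : j < nU) (hj0 : j ≠ 0) (hs : pt (ap (ent U j) b) ∈ B) :
    ∀ i < nU, pt (ap (ent U i) b) ∈ B := by
  unfold primOK at hc
  rw [Bool.and_eq_true, List.all_eq_true, List.all_eq_true] at hc
  obtain ⟨h1, h2⟩ := hc
  have h3 := h1 j (List.mem_range.2 hj)
  rw [Bool.or_eq_true] at h3
  rcases h3 with h3 | h3
  · exact absurd (beq_iff_eq.1 h3) hj0
  · rw [beq_iff_eq] at h3
    have hinit : ∀ x, ((1 <<< b) ||| (1 <<< ap (ent U j) b)).testBit x = true →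
        x < 100 ∧ pt x ∈ B := by
      intro x hx
      rcases testBit_or_bit hx with h | h
      · rw [Nat.one_shiftLeft, Nat.testBit_two_pow] at h
        have : b = x := of_decide_eq_true h
        rw [← this]
        exact ⟨hb, hω⟩
      · rw [h]
        exact ⟨ap_lt _ _, hs⟩
    have hfull := deriv_good hE hb B hblk 128 (PC.getD j 0) _ hinit
    rw [h3] at hfull
    intro i hi
    exact (hfull _ (h2 i (List.mem_range.2 hi))).2

end prim

/-- the rule table `E` consists of the transversal `U` followed by the letters `S` -/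
def eOK (GP : List Nat) (U nU E nE : Nat) (S : List Nat) : Bool :=
  decide (nE = nU + S.length) && ((List.range nU).all fun j => ent E j == ent U j) &&
    (List.range S.length).all fun k => ent E (nU + k) == lp GP (S.getD k 0)

theorem real_E {K : Subgroup Pm} {U nU E nE : Nat} {S : List Nat} (hG : gok GP = true)
    (h : eOK GP U nU E nE S = true) (hU : ∀ j < nU, Real K (ent U j))
    (hS : ∀ a ∈ S, gp GP a ∈ K) : ∀ e < nE, Real K (ent E e) := by
  unfold eOK at h
  rw [Bool.and_eq_true, Bool.and_eq_true, List.all_eq_true, List.all_eq_true] at h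
  obtain ⟨⟨h1, h2⟩, h3⟩ := h
  have h1' : nE = nU + S.length := of_decide_eq_true h1
  intro e he
  by_cases heU : e < nU
  · rw [beq_iff_eq.1 (h2 e (List.mem_range.2 heU))]
    exact hU e heU
  · have hk : e - nU < S.length := by omega
    have := beq_iff_eq.1 (h3 (e - nU) (List.mem_range.2 hk))
    rw [show nU + (e - nU) = e by omega, List.getD_eq_getElem _ _ hk] at this
    rw [this]
    exact real_lp hG (hS _ (List.getElem_mem hk))

/-- the primitivity statement for a level, in the form used by `PrimSimple` -/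
theorem Lvl.prim (L : Lvl) (hG : gok GP = true) (hL : L.ok GP = true)
    (hD : ∀ T ∈ L.D, ∀ k < T.2, Real (Hg GP L.A') (ent T.1 k))
    {E nE full : Nat} {PC : List Nat} (hE : ∀ e < nE, Real (Hg GP L.A) (ent E e))
    (hc : primOK L.U L.n E nE L.b full PC = true)
    (B : Set (Fin 100)) (hω : pt L.b ∈ B)
    (hsub : B ⊆ MulAction.orbit ↥(Hg GP L.A) (pt L.b))
    (hblk : ∀ g : ↥(Hg GP L.A), g • pt L.b ∈ B → ∀ s ∈ B, g • s ∈ B) :
    B = {pt L.b} ∨ B = MulAction.orbit ↥(Hg GP L.A) (pt L.b) := by
  have hb := (L.ok_parts hL).1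
  by_cases hB : B = {pt L.b}
  · exact Or.inl hB
  · right
    have hex : ∃ s ∈ B, s ≠ pt L.b := by
      by_contra hne
      apply hB
      ext s
      simp only [Set.mem_singleton_iff]
      constructor
      · intro hs
        by_contra hs'
        exact hne ⟨s, hs, hs'⟩
      · intro hs
        rw [hs]
        exact hω
    obtain ⟨s, hs, hsne⟩ := hex
    obtain ⟨g, hg⟩ := hsub hs
    obtain ⟨j, hj, hjv⟩ := L.orbit hG hL hD g.1 g.2
    have hs' : s = pt (ap (ent L.U j) L.b) := by
      rw [← hjv, pt_coe]
      exact hg.symm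
    have hj0 : j ≠ 0 := by
      rintro rfl
      apply hsne
      rw [hs', L.ent_zero hL]
    have hall := prim_cert hE hb B (fun g hg h1 s hs => hblk ⟨g, hg⟩ h1 s hs) hc hω j hj hj0
      (hs' ▸ hs)
    apply Set.Subset.antisymm hsub
    rintro _ ⟨g', rfl⟩
    obtain ⟨i, hi, hiv⟩ := L.orbit hG hL hD g'.1 g'.2
    have := hall i hi
    rw [← hiv, pt_coe] at this
    exact this

end gens

end Cfsg.Agent.Lib.Helper61.PermCert
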