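import Mathlib

set_option autoImplicit false

namespace Cfsg.Agent.Lib.Helper61.PrimeGraph

universe u v w

open scoped Matrix

/-- Two groups have the same prime graph: the same prime divisors of the order and,
for distinct primes `r`, `s`, an element of order `r * s` in one iff in the other. -/
def SamePG (A : Type u) (B : Type v) [Group A] [Group B] : Prop :=
  (∀ r : ℕ, r.Prime → (r ∣ Nat.card A ↔ r ∣ Nat.card B)) ∧
  (∀ r s : ℕ, r.Prime → s.Prime → r ≠ s →
    ((∃ x : A, orderOf x = r * s) ↔ (∃ y : B, orderOf y = r * s)))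

theorem SamePG.symm {A : Type u} {B : Type v} [Group A] [Group B] (h : SamePG A B) :
    SamePG B A :=
  ⟨fun r hr => (h.1 r hr).symm, fun r s hr hs hrs => (h.2 r s hr hs hrs).symm⟩

theorem SamePG.trans {A : Type u} {B : Type v} {C : Type w} [Group A] [Group B] [Group C]
    (h : SamePG A B) (h' : SamePG B C) : SamePG A C :=
  ⟨fun r hr => (h.1 r hr).trans (h'.1 r hr),
    fun r s hr hs hrs => (h.2 r s hr hs hrs).trans (h'.2 r s hr hs hrs)⟩

theorem SamePG.of_mulEquiv {A : Type u} {B : Type v} [Group A] [Group B] (e : A ≃* B) :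
    SamePG A B := by
  refine ⟨fun r _ => by rw [Nat.card_congr e.toEquiv], fun r s _ _ _ => ⟨?_, ?_⟩⟩
  · rintro ⟨x, hx⟩
    exact ⟨e x, by rw [MulEquiv.orderOf_eq, hx]⟩
  · rintro ⟨y, hy⟩
    exact ⟨e.symm y, by rw [MulEquiv.orderOf_eq, hy]⟩

/-- Key lemma: a split extension of `S` by a group of exponent `p` (with `p` dividing `|S|`)
has the same prime graph as `S`, provided every element of prime order `r ≠ p` of `S`
centralizing (via a lift) a nontrivial element of the kernel already has a `p r`-companion in `S`. -/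
theorem samePG_of_split {H : Type u} {S : Type v} [Group H] [Group S] [Finite H]
    (π : H →* S) (ι : S →* H) (hπι : ∀ s, π (ι s) = s) (p : ℕ) (hp : p.Prime)
    (hker : ∀ x ∈ π.ker, x ^ p = 1) (hpS : p ∣ Nat.card S)
    (hfix : ∀ (h z : H) (r : ℕ), z ∈ π.ker → z ≠ 1 → Commute z h → r.Prime → r ≠ p →
      orderOf (π h) = r → ∃ y : S, orderOf y = p * r) : SamePG S H := by
  have hsurj : Function.Surjective π := fun s => ⟨ι s, hπι s⟩
  have hinj : Function.Injective ι := fun a b hab => by
    have := congrArg π hab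
    rwa [hπι, hπι] at this
  have hcard : Nat.card H = Nat.card π.ker * Nat.card S := by
    have h1 := Subgroup.card_mul_index π.ker
    rw [Subgroup.index_ker, MonoidHom.range_eq_top.2 hsurj, Subgroup.card_top] at h1
    exact h1.symm
  have hpk : IsPGroup p π.ker := by
    intro x
    refine ⟨1, ?_⟩
    have := hker x.1 x.2
    rw [pow_one]
    exact Subtype.ext (by simpa using this)
  haveI : Fact p.Prime := ⟨hp⟩
  obtain ⟨j, hj⟩ := IsPGroup.iff_card.1 hpk
  -- auxiliary: the case where the image is killed by `r`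
  have aux : ∀ (h : H) (r s : ℕ), r.Prime → s.Prime → r ≠ s → orderOf h = r * s →
      (π h) ^ r = 1 → ∃ y : S, orderOf y = r * s := by
    intro h r s hr hs hrs hord hgr
    have hmem : h ^ r ∈ π.ker := by
      rw [MonoidHom.mem_ker, map_pow, hgr]
    have h1 : (h ^ r) ^ p = 1 := hker _ hmem
    rw [← pow_mul] at h1
    have h2 : r * s ∣ r * p := by
      rw [← hord]; exact orderOf_dvd_of_pow_eq_one h1
    have h3 : s ∣ p := Nat.dvd_of_mul_dvd_mul_left hr.pos h2
    have hsp : s = p := (Nat.prime_dvd_prime_iff_eq hs hp).1 h3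
    have hz : h ^ r ≠ 1 := by
      intro hz
      have h4 : r * s ∣ r := by
        rw [← hord]; exact orderOf_dvd_of_pow_eq_one hz
      have h5 : r * s ≤ r := Nat.le_of_dvd hr.pos h4
      have h6 : 2 ≤ s := hs.two_le
      nlinarith [hr.pos]
    have hcomm : Commute (h ^ r) h := (Commute.refl h).pow_left r
    have hdvd : orderOf (π h) ∣ r := orderOf_dvd_of_pow_eq_one hgr
    rcases (Nat.dvd_prime hr).1 hdvd with h7 | h7
    · -- π h = 1, so h is in the kernel: impossible
      exfalso
      have h8 : π h = 1 := orderOf_eq_one_iff.1 h7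
      have h9 : h ^ p = 1 := hker h (MonoidHom.mem_ker.2 h8)
      have h10 : r * s ∣ p := by
        rw [← hord]; exact orderOf_dvd_of_pow_eq_one h9
      rw [← hsp] at h10
      have h11 : r * s ≤ s := Nat.le_of_dvd hs.pos h10
      have h12 : 2 ≤ r := hr.two_le
      nlinarith [hs.pos]
    · obtain ⟨y, hy⟩ := hfix h (h ^ r) r hmem hz hcomm hr (by rw [← hsp]; exact hrs) h7
      exact ⟨y, by rw [hy, hsp, mul_comm]⟩
  refine ⟨fun r hr => ⟨fun h => ?_, fun h => ?_⟩, fun r s hr hs hrs => ⟨?_, ?_⟩⟩
  · rw [hcard]; exact Dvd.dvd.mul_left h _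
  · rw [hcard, hj] at h
    rcases (Nat.Prime.dvd_mul hr).1 h with h1 | h1
    · have h2 : r ∣ p := hr.dvd_of_dvd_pow h1
      rw [(Nat.prime_dvd_prime_iff_eq hr hp).1 h2]
      exact hpS
    · exact h1
  · rintro ⟨x, hx⟩
    exact ⟨ι x, by rw [orderOf_injective ι hinj, hx]⟩
  · rintro ⟨h, hord⟩
    have hg : (π h) ^ (r * s) = 1 := by
      rw [← map_pow, ← hord, pow_orderOf_eq_one, map_one]
    have hdvd : orderOf (π h) ∣ r * s := orderOf_dvd_of_pow_eq_one hg
    obtain ⟨d1, d2, hd1, hd2, hd⟩ := (Nat.dvd_mul).1 hdvd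
    rcases (Nat.dvd_prime hr).1 hd1 with h1 | h1
    · -- order divides s
      have h2 : (π h) ^ s = 1 := by
        apply orderOf_dvd_iff_pow_eq_one.1
        rw [← hd, h1, one_mul]; exact hd2
      obtain ⟨y, hy⟩ := aux h s r hs hr (Ne.symm hrs) (by rw [hord, mul_comm]) h2
      exact ⟨y, by rw [hy, mul_comm]⟩
    · rcases (Nat.dvd_prime hs).1 hd2 with h2 | h2
      · have h3 : (π h) ^ r = 1 := by
          apply orderOf_dvd_iff_pow_eq_one.1
          rw [← hd, h2, mul_one, h1]
        exact aux h r s hr hs hrs hord h3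
      · exact ⟨π h, by rw [← hd, h1, h2]⟩

/-- Semidirect product version of `samePG_of_split`. -/
theorem samePG_semidirect {S : Type u} [Group S] [Finite S] {N : Type v} [CommGroup N] [Finite N]
    (φ : S →* MulAut N) (p : ℕ) (hp : p.Prime) (hN : ∀ n : N, n ^ p = 1) (hpS : p ∣ Nat.card S)
    (hfix : ∀ (g : S) (n : N), n ≠ 1 → φ g n = n → ∀ r : ℕ, r.Prime → r ≠ p → orderOf g = r →
      ∃ y : S, orderOf y = p * r) : SamePG S (N ⋊[φ] S) := by
  haveI : Finite (N ⋊[φ] S) := Finite.of_equiv _ SemidirectProduct.equivProd.symm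
  refine samePG_of_split (SemidirectProduct.rightHom) (SemidirectProduct.inr)
    (fun s => SemidirectProduct.rightHom_inr s) p hp ?_ hpS ?_
  · intro x hx
    rw [MonoidHom.mem_ker] at hx
    have hx' : x.right = 1 := hx
    have : x = SemidirectProduct.inl x.left := by
      ext
      · simp
      · simp [hx']
    rw [this, ← map_pow, hN, map_one]
  · intro h z r hz hz1 hcomm hr hrp hord
    rw [MonoidHom.mem_ker] at hz
    have hz' : z.right = 1 := hz
    have hzl : z.left ≠ 1 := by
      intro hzl
      apply hz1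
      ext
      · simpa using hzl
      · simpa using hz'
    have h1 : (z * h).left = (h * z).left := by rw [hcomm.eq]
    rw [SemidirectProduct.mul_left, SemidirectProduct.mul_left, hz', map_one] at h1
    have h2 : φ h.right z.left = z.left := by
      have h3 : z.left * h.left = h.left * φ h.right z.left := by simpa using h1
      rw [mul_comm] at h3
      exact (mul_left_cancel h3).symm
    exact hfix h.right z.left hzl h2 r hr hrp hord

/-- The diagonal action on a power. -/
def piAct {S : Type u} [Group S] {N : Type v} [CommGroup N] (φ : S →* MulAut N) (k : ℕ) :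
    S →* MulAut (Fin k → N) where
  toFun g := MulEquiv.piCongrRight (fun _ => φ g)
  map_one' := by
    ext f i
    simp
  map_mul' g h := by
    ext f i
    simp

theorem piAct_apply {S : Type u} [Group S] {N : Type v} [CommGroup N] (φ : S →* MulAut N) (k : ℕ)
    (g : S) (f : Fin k → N) (i : Fin k) : piAct φ k g f i = φ g (f i) := rfl

/-- Every finite group has a copy in `Type`. -/
theorem exists_type0 (H : Type u) [Group H] [Finite H] :
    ∃ (H' : Type) (_ : Group H') (_ : Fintype H'), Nonempty (H' ≃* H) := by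
  let e : Fin (Nat.card H) ≃ H := (Finite.equivFin H).symm
  letI : Group (Fin (Nat.card H)) := e.group
  exact ⟨Fin (Nat.card H), e.group, inferInstance, ⟨e.mulEquiv⟩⟩

/-- Arbitrarily large groups with the same prime graph as `S`, from a module of exponent `p`. -/
theorem exists_large_samePG {S : Type u} [Group S] [Finite S] {N : Type v} [CommGroup N]
    [Finite N] [Nontrivial N]
    (φ : S →* MulAut N) (p : ℕ) (hp : p.Prime) (hN : ∀ n : N, n ^ p = 1) (hpS : p ∣ Nat.card S)
    (hfix : ∀ (g : S) (n : N), n ≠ 1 → φ g n = n → ∀ r : ℕ, r.Prime → r ≠ p → orderOf g = r →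
      ∃ y : S, orderOf y = p * r) (M : ℕ) :
    ∃ (H : Type) (_ : Group H) (_ : Fintype H), M < Fintype.card H ∧ SamePG S H := by
  have hsame : SamePG S ((Fin M → N) ⋊[piAct φ M] S) := by
    refine samePG_semidirect (piAct φ M) p hp ?_ hpS ?_
    · intro f
      funext i
      simp [hN]
    · intro g f hf hgf r hr hrp hord
      obtain ⟨i, hi⟩ : ∃ i, f i ≠ 1 := by
        by_contra hcon
        push Not at hcon
        exact hf (funext hcon)
      have h1 : φ g (f i) = f i := by
        have := congrFun hgf i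
        rwa [piAct_apply] at this
      exact hfix g (f i) hi h1 r hr hrp hord
  haveI : Finite ((Fin M → N) ⋊[piAct φ M] S) := Finite.of_equiv _ SemidirectProduct.equivProd.symm
  obtain ⟨H', hG, hF, ⟨e⟩⟩ := exists_type0 ((Fin M → N) ⋊[piAct φ M] S)
  refine ⟨H', hG, hF, ?_, hsame.trans (SamePG.of_mulEquiv e.symm)⟩
  rw [← Nat.card_eq_fintype_card, Nat.card_congr e.toEquiv, SemidirectProduct.card, Nat.card_fun,
    Nat.card_fin]
  have h2 : 2 ≤ Nat.card N := by
    have := Finite.one_lt_card (α := N)
    omega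
  have h3 : 0 < Nat.card S := Nat.card_pos
  calc M < 2 ^ M := Nat.lt_two_pow_self
    _ ≤ Nat.card N ^ M := Nat.pow_le_pow_left h2 M
    _ ≤ Nat.card N ^ M * Nat.card S := Nat.le_mul_of_pos_right _ h3

/-- The action of a group of matrices on column vectors, written multiplicatively. -/
def matAct {S : Type u} [Group S] {n : Type w} [Fintype n] [DecidableEq n] {F : Type v}
    [CommRing F] (ρ : S →* Matrix n n F) : S →* MulAut (Multiplicative (n → F)) where
  toFun g :=
    { toFun := fun x => Multiplicative.ofAdd (ρ g *ᵥ Multiplicative.toAdd x)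
      invFun := fun x => Multiplicative.ofAdd (ρ g⁻¹ *ᵥ Multiplicative.toAdd x)
      left_inv := fun x => by
        simp [Matrix.mulVec_mulVec, ← map_mul]
      right_inv := fun x => by
        simp [Matrix.mulVec_mulVec, ← map_mul]
      map_mul' := fun x y => by
        simp [Matrix.mulVec_add] }
  map_one' := by
    ext x
    simp
  map_mul' g h := by
    ext x
    simp [Matrix.mulVec_mulVec]

theorem matAct_apply {S : Type u} [Group S] {n : Type w} [Fintype n] [DecidableEq n] {F : Type v}
    [CommRing F] (ρ : S →* Matrix n n F) (g : S) (x : Multiplicative (n → F)) :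
    matAct ρ g x = Multiplicative.ofAdd (ρ g *ᵥ Multiplicative.toAdd x) := rfl

/-- Main tool: arbitrarily large groups with the same prime graph as `L`, from a matrix
representation of a group `S` with the prime graph of `L` over a ring of characteristic `p`. -/
theorem exists_large_samePG_matrix {L : Type w} [Group L] {S : Type u} [Group S] [Finite S]
    {n : Type} [Fintype n] [DecidableEq n] [Nonempty n] {F : Type v} [CommRing F] [Finite F]
    [Nontrivial F] (ρ : S →* Matrix n n F) (p : ℕ) (hp : p.Prime) (hchar : (p : F) = 0)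
    (hLS : SamePG L S) (hpS : p ∣ Nat.card S)
    (hfix : ∀ (g : S) (x : n → F), x ≠ 0 → ρ g *ᵥ x = x → ∀ r : ℕ, r.Prime → r ≠ p →
      orderOf g = r → ∃ y : S, orderOf y = p * r) (M : ℕ) :
    ∃ (H : Type) (_ : Group H) (_ : Fintype H), M < Fintype.card H ∧ SamePG L H := by
  obtain ⟨H, hG, hF, hM, hS⟩ := exists_large_samePG (matAct ρ) p hp (N := Multiplicative (n → F))
    (by
      intro x
      apply Multiplicative.toAdd.injective
      rw [toAdd_pow, toAdd_one]
      funext i
      simp [hchar]) hpS
    (by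
      intro g x hx hgx r hr hrp hord
      refine hfix g (Multiplicative.toAdd x) ?_ ?_ r hr hrp hord
      · intro h0
        apply hx
        apply Multiplicative.toAdd.injective
        rw [h0, toAdd_one]
      · have := congrArg Multiplicative.toAdd hgx
        rwa [matAct_apply, toAdd_ofAdd] at this) M
  exact ⟨H, hG, hF, hM, hLS.trans hS⟩

/-- The same with `Finite` and `Nat.card`. -/
theorem exists_large_samePG_matrix' {L : Type w} [Group L] {S : Type u} [Group S] [Finite S]
    {n : Type} [Fintype n] [DecidableEq n] [Nonempty n] {F : Type v} [CommRing F] [Finite F]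
    [Nontrivial F] (ρ : S →* Matrix n n F) (p : ℕ) (hp : p.Prime) (hchar : (p : F) = 0)
    (hLS : SamePG L S) (hpS : p ∣ Nat.card S)
    (hfix : ∀ (g : S) (x : n → F), x ≠ 0 → ρ g *ᵥ x = x → ∀ r : ℕ, r.Prime → r ≠ p →
      orderOf g = r → ∃ y : S, orderOf y = p * r) (M : ℕ) :
    ∃ (H : Type) (_ : Group H) (_ : Finite H), M < Nat.card H ∧ SamePG L H := by
  obtain ⟨H, hG, hF, hM, hS⟩ := exists_large_samePG_matrix ρ p hp hchar hLS hpS hfix M
  exact ⟨H, hG, Finite.of_fintype H, by rw [Nat.card_eq_fintype_card]; exact hM, hS⟩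

end Cfsg.Agent.Lib.Helper61.PrimeGraph
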