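import Mathlib
import Cfsg.Agent.Lib.Helper42.ReeDegStmt

/-!
# S2343 piece PARH: the torus `H = {e s}` and its involution `t = e (-1)`.
-/

set_option autoImplicit false

namespace Cfsg.Agent.Lib.Helper61.ReeDegPARH

open Cfsg.Agent.Lib.Helper42.ReeDegStmt

universe u v

theorem main : ParHP.{u, v} := by
  intro Γ _ R K _ _ φ x e hP Z A U hM
  classical
  -- `e 1 = 1`
  have he1 : e 1 = 1 := by
    have h := hP.e_mul 1 1 one_ne_zero one_ne_zero
    rw [mul_one] at h
    have h2 := congrArg (fun y => (e 1)⁻¹ * y) h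
    simpa using h2.symm
  -- the torus as a homomorphism
  let f : Kˣ →* ↥R :=
    { toFun := fun s => ⟨e (s : K), hP.e_mem _ s.ne_zero⟩
      map_one' := Subtype.ext (by simpa using he1)
      map_mul' := fun a b => Subtype.ext (by simpa using hP.e_mul a b a.ne_zero b.ne_zero) }
  have hf : ∀ s : Kˣ, ((f s : ↥R) : Γ) = e (s : K) := fun s => rfl
  have hinj : Function.Injective f := by
    intro s s' h
    have h1 : e (s : K) = e (s' : K) := by rw [← hf, ← hf, h]
    exact Units.ext (hP.e_inj _ _ s.ne_zero s'.ne_zero h1)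
  -- facts on `x 0 0 v`
  have hxz : ∀ a b : K, x 0 0 a * x 0 0 b = x 0 0 (a + b) := by
    intro a b
    rw [hP.x_mul]
    simp
  have hx0 : x 0 0 0 = 1 := by
    have h := hxz 0 0
    rw [add_zero] at h
    have h2 := congrArg (fun y => (x 0 0 0)⁻¹ * y) h
    simpa using h2
  have hxinv : ∀ a : K, (x 0 0 a)⁻¹ = x 0 0 (-a) := by
    intro a
    apply inv_eq_of_mul_eq_one_right
    rw [hxz, add_neg_cancel, hx0]
  -- conjugation by `e s`
  have hconj : ∀ (s : Kˣ) (t u v : K), e (s : K) * x t u v * (e (s : K))⁻¹ =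
      x ((s : K) ^ 2 / φ s ^ 3 * t) (φ s ^ 3 / s * u) (s * v) := by
    intro s t u v
    rw [hP.e_x _ s.ne_zero, mul_inv_cancel_right]
  refine ⟨f.range, f (-1), ?_⟩
  refine ⟨?_, ?_, ?_, ?_, ?_, ?_⟩
  · -- normHA
    rintro h ⟨s, rfl⟩ a ha
    obtain ⟨u, v, hauv⟩ := (hM.memA a).mp ha
    refine (hM.memA _).mpr ⟨φ s ^ 3 / s * u, s * v, ?_⟩
    rw [Subgroup.coe_mul, Subgroup.coe_mul, Subgroup.coe_inv, hf, hauv, hconj, mul_zero]
  · -- normHZ
    rintro h ⟨s, rfl⟩ z hz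
    obtain ⟨v, hzv⟩ := (hM.memZ z).mp hz
    refine (hM.memZ _).mpr ⟨s * v, ?_⟩
    rw [Subgroup.coe_mul, Subgroup.coe_mul, Subgroup.coe_inv, hf, hzv, hconj, mul_zero, mul_zero]
  · -- cardH
    rw [Nat.card_congr (MonoidHom.ofInjective hinj).symm.toEquiv, Nat.card_eq_fintype_card,
      Fintype.card_units]
  · -- stabH
    rintro h ⟨s, rfl⟩ hne z hz
    obtain ⟨v, hzv⟩ := (hM.memZ z).mp hz
    have hs1 : (s : K) ≠ 1 := by
      intro h1
      apply hne
      have : s = 1 := Units.ext h1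
      rw [this, map_one]
    have hs1' : (s : K) - 1 ≠ 0 := sub_ne_zero.mpr hs1
    refine ⟨⟨x 0 0 (v / ((s : K) - 1)), hP.x_mem _ _ _⟩, (hM.memZ _).mpr ⟨_, rfl⟩, ?_⟩
    apply Subtype.ext
    rw [Subgroup.coe_mul, Subgroup.coe_mul, Subgroup.coe_mul, Subgroup.coe_inv, Subgroup.coe_inv,
      hf, hzv]
    change e (s : K) * x 0 0 (v / ((s : K) - 1)) * (e (s : K))⁻¹ * (x 0 0 (v / ((s : K) - 1)))⁻¹ = _
    rw [hconj, mul_zero, mul_zero, hxinv, hxz]
    congr 1
    field_simp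
    ring
  · -- tH
    exact ⟨-1, rfl⟩
  · -- tInv
    have : Fact (Nat.Prime 2) := ⟨Nat.prime_two⟩
    apply orderOf_eq_prime
    · rw [← map_pow]
      have : (-1 : Kˣ) ^ 2 = 1 := by simp
      rw [this, map_one]
    · intro h
      have h1 : f (-1) = f 1 := by rw [h, map_one]
      have h2 := hinj h1
      apply hP.neg_one
      have h3 := congrArg (fun s : Kˣ => (s : K)) h2
      simpa using h3

end Cfsg.Agent.Lib.Helper61.ReeDegPARH
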