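import Mathlib
import Cfsg.Agent.Lib.Helper18.ReeMultStmt

/-!
# S2113 piece FIN2: the kernel meets the commutator subgroup of the preimage of `S` trivially.
-/

set_option autoImplicit false

namespace Cfsg.Agent.Lib.Helper61.ReeMultFIN2

open Cfsg.Agent.Lib.Helper18.ReeMultStmt
open scoped commutatorElement

universe u w

open scoped IsMulCommutative in
theorem main (h : P2FORM.{u, w}) : FIN2.{u, w} := by
  intro Γ _ G _ σ hs hc S n hcard hexp hn7 hnS hfix z hz hzc
  classical
  -- `S` is abelian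
  have hcomm : ∀ x ∈ S, ∀ y ∈ S, x * y = y * x := by
    intro x hx y hy
    have h1 := hexp (x * y) (S.mul_mem hx hy)
    have hxi : x⁻¹ = x := inv_eq_of_mul_eq_one_left (hexp x hx)
    have hyi : y⁻¹ = y := inv_eq_of_mul_eq_one_left (hexp y hy)
    have h2 : x * y = (x * y)⁻¹ := (inv_eq_of_mul_eq_one_left h1).symm
    rw [mul_inv_rev, hxi, hyi] at h2
    exact h2
  -- the form
  let B : G → G → Subgroup.center Γ := fun x y =>
    if hxy : x * y = y * x then ⟨cm σ hs x y, hc (cm_mem_ker σ hs hxy)⟩ else 1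
  have hB : ∀ x y (hxy : x * y = y * x), (B x y : Γ) = cm σ hs x y := by
    intro x y hxy
    simp only [B, dif_pos hxy]
  have hkey : ∀ x ∈ S, ∀ y ∈ S, B x y = 1 := by
    apply h G S (Subgroup.center Γ) B n hcard hexp hn7 hnS hfix
    · intro x hx x' hx' y hy
      apply Subtype.ext
      rw [Subgroup.coe_mul, hB _ _ (hcomm _ (S.mul_mem hx hx') _ hy),
        hB _ _ (hcomm x hx y hy), hB _ _ (hcomm x' hx' y hy)]
      exact cm_mul_left_c σ hs hc (hcomm x' hx' y hy)
    · intro x hx y hy y' hy'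
      apply Subtype.ext
      rw [Subgroup.coe_mul, hB _ _ (hcomm x hx _ (S.mul_mem hy hy')),
        hB _ _ (hcomm x hx y hy), hB _ _ (hcomm x hx y' hy')]
      exact cm_mul_right_c σ hs hc (hcomm x hx y' hy')
    · intro x hx
      apply Subtype.ext
      rw [hB _ _ rfl, Subgroup.coe_one]
      unfold cm
      exact commutatorElement_self _
    · intro x hx y hy
      apply Subtype.ext
      rw [hB _ _ (hcomm _ (hnS x hx) _ (hnS y hy)), hB _ _ (hcomm x hx y hy)]
      have h1 := conj_cm σ hs hc (sec σ hs n) x y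
      rw [sec_spec] at h1
      rw [← h1, cm_central σ hs hc (hcomm x hx y hy), mul_inv_cancel_right]
  -- conclusion
  have hab : ⁅S.comap σ, S.comap σ⁆ = ⊥ := by
    rw [eq_bot_iff, Subgroup.commutator_le]
    intro g hg g' hg'
    rw [Subgroup.mem_bot, commutatorElement_eq_one_iff_mul_comm]
    apply comm_of_cm σ hs hc
    have h1 := hkey (σ g) hg (σ g') hg'
    have h2 := congrArg Subtype.val h1
    rw [hB _ _ (hcomm _ hg _ hg')] at h2
    exact h2
  rw [hab] at hzc
  exact Subgroup.mem_bot.mp hzc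

end Cfsg.Agent.Lib.Helper61.ReeMultFIN2
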