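import Mathlib
import Cfsg.Agent.Lib.Helper61.RuRes

set_option autoImplicit false

/-! Generated: identities between words of letters, and small certificates, for the Rudvalis
group and its Tits subgroup. -/

namespace Cfsg.Agent.Lib.Helper61.RuId

open Cfsg.Agent.Lib.Helper61.RuFast Cfsg.Agent.Lib.Helper61.RuData
open Cfsg.Agent.Lib.Helper61.RuMain Cfsg.Agent.Lib.Helper61.RuLvl
open Cfsg.Agent.Lib.Helper61.RuRes

theorem dw3_ok : idchk [3] dw3 = true := by decide +kernel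

theorem dw4_ok : idchk [4] dw4 = true := by decide +kernel

theorem dw6_ok : idchk [6] dw6 = true := by decide +kernel

theorem dw7_ok : idchk [7] dw7 = true := by decide +kernel

theorem dw9_ok : idchk [9] dw9 = true := by decide +kernel

theorem dw11_ok : idchk [11] dw11 = true := by decide +kernel

theorem dw12_ok : idchk [12] dw12 = true := by decide +kernel

theorem fix3 : fmv (ttab 3) b0c = b0c := by decide +kernel

theorem fix4 : fmv (ttab 4) b0c = b0c := by decide +kernel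

theorem fix12 : fmv (ttab 12) b0c = b0c := by decide +kernel

theorem fix6 : fmv (ttab 6) b1c = b1c := by decide +kernel

theorem fix7 : fmv (ttab 7) b1c = b1c := by decide +kernel

theorem fix9 : fmv (ttab 9) b2c = b2c := by decide +kernel

theorem fix11 : fmv (ttab 11) b2c = b2c := by decide +kernel

theorem cfix1 : fmv (ttab 12) b1c = b1c := by decide +kernel

theorem cfix2 : fmv (ttab 12) b2c = b2c := by decide +kernel

theorem cmove : allB 10 (fun j => !(Nat.beq (lk T3 j) (fmv (ttab 12) b3c))) = true := by decide +kernel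

theorem pow1 : idchk (rep 3 [1]) [] = true := by decide +kernel

theorem pow4 : idchk (rep 3 [4]) [] = true := by decide +kernel

theorem pow7 : idchk (rep 4 [7]) [] = true := by decide +kernel

theorem pow9 : idchk (rep 5 [9]) [] = true := by decide +kernel

theorem nrm1 : idchk [13, 3, 12] W1 = true := by decide +kernel

theorem nrm2 : idchk [13, 4, 12] W2 = true := by decide +kernel

theorem csq : idchk [12, 12] W3 = true := by decide +kernel

theorem ab29 : idchk (rep 29 [0, 1]) [] = true := by decide +kernel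

theorem xx13 : idchk (rep 13 [3, 4]) [] = true := by decide +kernel

theorem ab_ne : Nat.beq (fmvW ttab [0, 1] 1) 1 = false := by decide +kernel

theorem xx_ne : Nat.beq (fmvW ttab [3, 4] 1) 1 = false := by decide +kernel

theorem lb0_g : idchk (lbG0 ++ lbGi0) [] = true := by decide +kernel

theorem lb0_q : idchk (lbQ0 ++ lbQi0) [] = true := by decide +kernel

theorem lb0_main : idchk [0] (lbQ0 ++ rep 7 ([0, 1] ++ lbG0 ++ [0, 1] ++ lbGi0) ++ lbQi0) = true := by decide +kernel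

theorem lb1_g : idchk (lbG1 ++ lbGi1) [] = true := by decide +kernel

theorem lb1_q : idchk (lbQ1 ++ lbQi1) [] = true := by decide +kernel

theorem lb1_main : idchk [3] (lbQ1 ++ rep 5 ([3, 4] ++ lbG1 ++ [3, 4] ++ lbGi1) ++ lbQi1) = true := by decide +kernel

def root0 : ℕ → Bool := (fun j => Nat.beq j 3611 || Nat.beq j 0 || Nat.beq j 2)

def root1 : ℕ → Bool := (fun j => Nat.beq j 0 || Nat.beq j 1 || Nat.beq j 6 || Nat.beq j 34 || Nat.beq j 116)

theorem forest0_ok : allB 4060 (fun j => okF T0 F0 4060 3 6 root0 j) = true := by decide +kernel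

theorem forest1_ok : allB 1755 (fun j => okF T1 F1 1755 6 9 root1 j) = true := by decide +kernel

theorem span_ok : spanOK T0 4060 spanL = true := by decide +kernel

theorem b2_pt : lk T1 1 = b2c := by decide +kernel

theorem b3_pt : lk T1 854 = b3c := by decide +kernel

theorem d0_0_0 : fmvW ttab [5, 3, 5, 3, 4, 3, 4, 3, 5, 3, 4, 3, 4, 3, 4, 3, 5] (fmvW ttab (uw P0 (dp P0 0) 0) (lk T0 0)) = lk T0 2 := by decide +kernel

theorem d0_2_0 : fmvW ttab [4, 3, 4, 3, 4, 3, 4, 3, 4, 3, 4, 3, 5, 3, 5, 3, 4, 3] (fmvW ttab (uw P0 (dp P0 3611) 3611) (lk T0 2)) = lk T0 3668 := by decide +kernel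

theorem d0_2_1 : fmvW ttab [5, 3, 4, 3, 5, 3, 5, 3, 5, 3, 4, 3, 5, 3, 5, 3, 4, 3] (fmvW ttab (uw P0 (dp P0 3668) 3668) (lk T0 2)) = lk T0 0 := by decide +kernel

theorem d1_1_0 : fmvW ttab [7, 6, 8] (fmvW ttab (uw P1 (dp P1 1) 1) (lk T1 1)) = lk T1 6 := by decide +kernel

theorem d1_1_1 : fmvW ttab [8, 6, 7, 7, 6, 8, 6, 7, 6, 7] (fmvW ttab (uw P1 (dp P1 0) 0) (lk T1 1)) = lk T1 308 := by decide +kernel

theorem d1_1_2 : fmvW ttab [7, 6] (fmvW ttab (uw P1 (dp P1 6) 6) (lk T1 308)) = lk T1 116 := by decide +kernel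

theorem d1_1_3 : fmvW ttab [6, 7, 7] (fmvW ttab (uw P1 (dp P1 0) 0) (lk T1 116)) = lk T1 1160 := by decide +kernel

theorem d1_1_4 : fmvW ttab [6, 7, 6, 8, 6, 7, 6, 8, 8] (fmvW ttab (uw P1 (dp P1 1160) 1160) (lk T1 116)) = lk T1 34 := by decide +kernel

theorem d1_6_0 : fmvW ttab [7, 7, 6, 7, 6, 7, 7, 6, 7] (fmvW ttab (uw P1 (dp P1 0) 0) (lk T1 6)) = lk T1 731 := by decide +kernel

theorem d1_6_1 : fmvW ttab [8, 6, 7, 6, 8, 8, 6, 8, 6, 8] (fmvW ttab (uw P1 (dp P1 731) 731) (lk T1 6)) = lk T1 1 := by decide +kernel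

theorem d1_6_2 : fmvW ttab [8, 6, 7, 6, 7, 6, 8, 6, 7, 6] (fmvW ttab (uw P1 (dp P1 0) 0) (lk T1 6)) = lk T1 1381 := by decide +kernel

theorem d1_6_3 : fmvW ttab [8, 6, 7, 6, 8] (fmvW ttab (uw P1 (dp P1 0) 0) (lk T1 1)) = lk T1 890 := by decide +kernel

theorem d1_6_4 : fmvW ttab [8, 6, 8, 6, 7, 7] (fmvW ttab (uw P1 (dp P1 0) 0) (lk T1 6)) = lk T1 255 := by decide +kernel

theorem d1_6_5 : fmvW ttab [6, 8, 8] (fmvW ttab (uw P1 (dp P1 890) 890) (lk T1 255)) = lk T1 34 := by decide +kernel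

theorem d1_6_6 : fmvW ttab [6, 7, 7, 6] (fmvW ttab (uw P1 (dp P1 0) 0) (lk T1 34)) = lk T1 1715 := by decide +kernel

theorem d1_6_7 : fmvW ttab [8] (fmvW ttab (uw P1 (dp P1 1381) 1381) (lk T1 1715)) = lk T1 116 := by decide +kernel

theorem d1_34_0 : fmvW ttab [8, 8, 6, 7, 6, 8, 6, 7, 6, 7, 6] (fmvW ttab (uw P1 (dp P1 34) 34) (lk T1 34)) = lk T1 1 := by decide +kernel

theorem d1_34_1 : fmvW ttab [7, 6, 8] (fmvW ttab (uw P1 (dp P1 1) 1) (lk T1 1)) = lk T1 6 := by decide +kernel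

theorem d1_34_2 : fmvW ttab [7, 6, 7, 6, 8, 6] (fmvW ttab (uw P1 (dp P1 0) 0) (lk T1 6)) = lk T1 196 := by decide +kernel

theorem d1_34_3 : fmvW ttab [6, 8, 6, 7, 6, 7, 6, 8, 6, 7, 6] (fmvW ttab (uw P1 (dp P1 0) 0) (lk T1 34)) = lk T1 1251 := by decide +kernel

theorem d1_34_4 : fmvW ttab [8, 8, 6, 8] (fmvW ttab (uw P1 (dp P1 1251) 1251) (lk T1 196)) = lk T1 116 := by decide +kernel

theorem d1_116_0 : fmvW ttab [6, 8, 8, 6, 8, 6, 7, 6] (fmvW ttab (uw P1 (dp P1 116) 116) (lk T1 116)) = lk T1 34 := by decide +kernel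

theorem d1_116_1 : fmvW ttab [8, 8, 6, 7, 6, 8, 6, 7, 6, 7, 6] (fmvW ttab (uw P1 (dp P1 34) 34) (lk T1 34)) = lk T1 1 := by decide +kernel

theorem d1_116_2 : fmvW ttab [7, 6, 8] (fmvW ttab (uw P1 (dp P1 1) 1) (lk T1 1)) = lk T1 6 := by decide +kernel

end Cfsg.Agent.Lib.Helper61.RuId
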