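import Mathlib
import Cfsg.Agent.Lib.Helper55.S66Stmt
import Cfsg.Agent.Lib.Helper55.S53Stmt

/-!
# S1366 piece PARTB, light core: the landed Bender-Glauberman facts are explicit hypotheses
(`H1354`, `H1352`, `HSig`, `PrimAct`, `FixC`, `CentC`), so that this file needs no heavy import.
-/

set_option autoImplicit false

namespace Cfsg.Agent.Lib.Helper61.S66PARTBCore

open Cfsg.Agent.Lib.Helper9.S51IStmt Cfsg.Agent.Lib.Helper55.S66Stmt

universe u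

/-- S1354 as a hypothesis. -/
def H1354 : Prop :=
  ∀ {G : Type u} [Group G] [Finite G], Cfsg.IsMinSimpleOddOrder G →
  ∀ (M : Subgroup G), IsCoatom M → ∀ (K : Subgroup G), IsCyclic K →
    Cfsg.IsPiHallOf (Cfsg.kappa M) K M →
    Cfsg.sigmaCore M ⊓ Subgroup.centralizer (K : Set G) ≠ ⊥ ∧
      (K ≠ ⊥ → ∀ k ∈ K, k ≠ 1 →
        M ⊓ Subgroup.centralizer ({k} : Set G) =
          K ⊔ (Cfsg.sigmaCore M ⊓ Subgroup.centralizer (K : Set G)))

/-- The existence half of S1352 as a hypothesis. -/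
def H1352 : Prop :=
  ∀ {G : Type u} [Group G] [Finite G], Cfsg.IsMinSimpleOddOrder G →
  ∀ (M : Subgroup G), IsCoatom M → ∀ (K : Subgroup G), IsCyclic K →
    Cfsg.IsPiHallOf (Cfsg.kappa M) K M → ∃ U : Subgroup G, Cfsg.IsSigmaDecomposition M K U

/-- `BG11b.le_sigmaCore_of_isPGroup` as a hypothesis. -/
def HSig : Prop :=
  ∀ {G : Type u} [Group G] [Finite G], Cfsg.IsMinSimpleOddOrder G →
  ∀ (M : Subgroup G), IsCoatom M → ∀ (q : ℕ), q ∈ Cfsg.sigma M → ∀ (Q : Subgroup G), Q ≤ M →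
    IsPGroup q Q → Q ≤ Cfsg.sigmaCore M

theorem comm_of_cyc {G : Type u} [Group G] (K : Subgroup G) (hK : IsCyclic K) (a b : G)
    (ha : a ∈ K) (hb : b ∈ K) : a * b = b * a := by
  have := hK
  obtain ⟨g, hg⟩ := IsCyclic.exists_generator (α := K)
  obtain ⟨m, hm⟩ := Subgroup.mem_zpowers_iff.mp (hg ⟨a, ha⟩)
  obtain ⟨n, hn⟩ := Subgroup.mem_zpowers_iff.mp (hg ⟨b, hb⟩)
  have h1 : (⟨a, ha⟩ : K) * ⟨b, hb⟩ = ⟨b, hb⟩ * ⟨a, ha⟩ := by
    rw [← hm, ← hn, ← zpow_add, ← zpow_add, add_comm]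
  exact congrArg Subtype.val h1

theorem main_of (hKCyc : KCyc.{u}) (h1354 : H1354.{u}) (h1352 : H1352.{u}) (hsig : HSig.{u})
    (hprim : Cfsg.Agent.Lib.Helper55.S53Stmt.PrimAct.{u}) (hfixC : FixC.{u})
    (hcentC : CentC.{u}) : PartB.{u} := by
  intro G _ _ hG M K U Y H q h K2 hK2 hKs hD
  have hM := h.hs.hM
  have hH := h.hs.hH
  have hK2cyc : IsCyclic K2 := hKCyc hG H hH K2 hK2
  obtain ⟨hKsne, h54M⟩ := h1354 hG M hM K h.dec.cyclic h.dec.hall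
  -- an element `c ≠ 1` of `Ks`
  obtain ⟨c, hcKs, hc1⟩ : ∃ c ∈ Ks M K, c ≠ 1 := by
    by_contra hcon
    apply hKsne
    rw [eq_bot_iff]
    intro c hc
    by_contra hc1
    exact hcon ⟨c, hc, fun h => hc1 (Subgroup.mem_bot.mpr h)⟩
  have hcK2 : c ∈ K2 := hKs hcKs
  have hK2ne : K2 ≠ ⊥ := by
    intro hb
    rw [hb] at hcK2
    exact hc1 (Subgroup.mem_bot.mp hcK2)
  obtain ⟨U2, hdec2⟩ := h1352 hG H hH K2 hK2cyc hK2
  have e1 := hprim hG H K2 U2 hH hdec2 c hcK2 hc1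
  have hcCR : c ∈ CR M Y :=
    ⟨hcKs.1, Subgroup.centralizer_le (show (Y : Set G) ⊆ K from h.hYK) hcKs.2⟩
  have e2 := hfixC hG M Y H q h.hs c hcCR hc1
  have hK2s : Ks H K2 = M ⊓ Cfsg.sigmaCore H := e1.symm.trans e2
  have hK2sK : Ks H K2 ≤ K := by rw [hK2s]; exact hD
  refine ⟨?_, hK2sK⟩
  -- `K2 ≤ C{c} ≤ M`
  have hK2Cc : K2 ≤ Subgroup.centralizer ({c} : Set G) := by
    intro k hk
    rw [Subgroup.mem_centralizer_iff]
    intro x hx
    rw [Set.mem_singleton_iff.mp hx]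
    exact comm_of_cyc K2 hK2cyc c k hcK2 hk
  have hK2M : K2 ≤ M := hK2Cc.trans (hcentC hG M Y H q h.hs c hcCR hc1)
  -- an element `y ≠ 1` of `Y`
  have hqp : q.Prime := h.hs.hr.1
  have hYne : ∃ y ∈ Y, y ≠ 1 := by
    by_contra hcon
    have hYbot : Y = ⊥ := by
      rw [eq_bot_iff]
      intro y hy
      by_contra hy1
      exact hcon ⟨y, hy, fun h => hy1 (Subgroup.mem_bot.mpr h)⟩
    have h1 := h.hs.hR0c
    rw [hYbot, Subgroup.card_bot] at h1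
    rw [← h1] at hqp
    exact Nat.not_prime_one hqp
  obtain ⟨y, hyY, hy1⟩ := hYne
  have hyK : y ∈ K := h.hYK hyY
  have hKne : K ≠ ⊥ := by
    intro hb
    rw [hb] at hyK
    exact hy1 (Subgroup.mem_bot.mp hyK)
  -- `Y ≤ H_σ`
  have hYH : Y ≤ H := Subgroup.le_normalizer.trans h.hs.hN
  have hYp : IsPGroup q Y := by
    have : Fact q.Prime := ⟨hqp⟩
    exact IsPGroup.of_card (n := 1) (by rw [h.hs.hR0c, pow_one])
  have hYsig : Y ≤ Cfsg.sigmaCore H := hsig hG H hH q h.hs.hrH Y hYH hYp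
  have hyMH : y ∈ M ⊓ Cfsg.sigmaCore H := ⟨h.hs.hR0M hyY, hYsig hyY⟩
  have hyC : y ∈ Subgroup.centralizer (K2 : Set G) := by
    rw [← hK2s] at hyMH
    exact hyMH.2
  have hK2Cy : K2 ≤ Subgroup.centralizer ({y} : Set G) := by
    intro k hk
    rw [Subgroup.mem_centralizer_iff]
    intro x hx
    rw [Set.mem_singleton_iff.mp hx]
    exact (Subgroup.mem_centralizer_iff.mp hyC k hk).symm
  have hK2le : K2 ≤ K ⊔ Ks M K := (le_inf hK2M hK2Cy).trans_eq (h54M hKne y hyK hy1)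
  have hle1 : K2 ⊔ Ks H K2 ≤ K ⊔ Ks M K := sup_le hK2le (hK2sK.trans le_sup_left)
  -- the converse
  have hKC_Y : K ≤ Subgroup.centralizer (Y : Set G) := by
    intro k hk
    rw [Subgroup.mem_centralizer_iff]
    intro x hx
    exact comm_of_cyc K h.dec.cyclic x k (h.hYK hx) hk
  have hKH : K ≤ H :=
    hKC_Y.trans ((Subgroup.centralizer_le_normalizer (Y : Set G)).trans h.hs.hN)
  have hKCc : K ≤ Subgroup.centralizer ({c} : Set G) := by
    intro k hk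
    rw [Subgroup.mem_centralizer_iff]
    intro x hx
    rw [Set.mem_singleton_iff.mp hx]
    exact (Subgroup.mem_centralizer_iff.mp hcKs.2 k hk).symm
  obtain ⟨-, h54H⟩ := h1354 hG H hH K2 hK2cyc hK2
  have hKle : K ≤ K2 ⊔ Ks H K2 := (le_inf hKH hKCc).trans_eq (h54H hK2ne c hcK2 hc1)
  have hle2 : K ⊔ Ks M K ≤ K2 ⊔ Ks H K2 := sup_le hKle (hKs.trans le_sup_left)
  exact ⟨hH, hK2, hK2cyc, hK2ne, le_antisymm hle1 hle2⟩

end Cfsg.Agent.Lib.Helper61.S66PARTBCore
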