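import Mathlib
import Cfsg.Agent.Lib.Helper79.SNStmt
import Cfsg.Agent.Lib.CT.Ops

/-!
# S4931 piece CONV: a subgroup with a normal complement: every irreducible character extends.
-/

set_option autoImplicit false

namespace Cfsg.Agent.Lib.Helper61.SNCONV

open Cfsg

universe u

theorem main : Cfsg.Agent.Lib.Helper79.SNStmt.Conv.{u} := by
  intro G _ _ H K hK hsup hinf θ
  have := hK
  let f : ↥H →* G ⧸ K := (QuotientGroup.mk' K).comp H.subtype
  have hf : ∀ x : ↥H, f x = ((x : G) : G ⧸ K) := fun x => rfl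
  have hinj : Function.Injective f := by
    rw [injective_iff_map_eq_one]
    intro x hx
    rw [hf, QuotientGroup.eq_one_iff] at hx
    have h1 : (x : G) ∈ K ⊓ H := ⟨hx, x.2⟩
    rw [hinf, Subgroup.mem_bot] at h1
    exact Subtype.ext h1
  have hsurj : Function.Surjective f := by
    intro q
    obtain ⟨g, rfl⟩ := QuotientGroup.mk_surjective q
    have hg : g ∈ ((K ⊔ H : Subgroup G) : Set G) := by rw [hsup]; trivial
    rw [Subgroup.normal_mul] at hg
    obtain ⟨k, hk, h, hh, rfl⟩ := Set.mem_mul.mp hg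
    refine ⟨⟨h, hh⟩, ?_⟩
    rw [hf]
    symm
    rw [QuotientGroup.eq]
    have e : (k * h)⁻¹ * h = h⁻¹ * k⁻¹ * h := by group
    rw [e]
    have h2 := hK.conj_mem k⁻¹ (inv_mem hk) h⁻¹
    simpa using h2
  let e : ↥H ≃* G ⧸ K := MulEquiv.ofBijective f ⟨hinj, hsurj⟩
  let π : G →* ↥H := e.symm.toMonoidHom.comp (QuotientGroup.mk' K)
  have hπsurj : Function.Surjective π := by
    intro x
    refine ⟨(x : G), ?_⟩
    show e.symm ((x : G) : G ⧸ K) = x
    rw [← hf x]
    exact e.symm_apply_apply x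
  have hπ : ∀ x : ↥H, π (x : G) = x := by
    intro x
    show e.symm ((x : G) : G ⧸ K) = x
    rw [← hf x]
    exact e.symm_apply_apply x
  refine ⟨⟨fun g => (θ : ↥H → ℂ) (π g),
    Cfsg.Agent.Lib.CT.Ops.isIrrCharacter_comp_surjective π hπsurj θ.2⟩, ?_⟩
  intro x
  show (θ : ↥H → ℂ) (π (x : G)) = (θ : ↥H → ℂ) x
  rw [hπ]

end Cfsg.Agent.Lib.Helper61.SNCONV
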