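import Mathlib

set_option autoImplicit false

namespace Cfsg.Agent.Lib.Helper61.Sp63W

open Matrix

/-- `6 × 6` matrices over the field with three elements, in block form. -/
abbrev M6 : Type := Matrix (Fin 3 ⊕ Fin 3) (Fin 3 ⊕ Fin 3) (ZMod 3)

theorem one_eq : (fromBlocks !![1, 0, 0; 0, 1, 0; 0, 0, 1] !![0, 0, 0; 0, 0, 0; 0, 0, 0]
    !![0, 0, 0; 0, 0, 0; 0, 0, 0] !![1, 0, 0; 0, 1, 0; 0, 0, 1] : M6) = 1 := by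
  rw [← fromBlocks_one]
  congr 1 <;> decide

theorem neg_one_eq : (fromBlocks !![2, 0, 0; 0, 2, 0; 0, 0, 2] !![0, 0, 0; 0, 0, 0; 0, 0, 0]
    !![0, 0, 0; 0, 0, 0; 0, 0, 0] !![2, 0, 0; 0, 2, 0; 0, 0, 2] : M6) = -1 := by
  rw [← fromBlocks_one, fromBlocks_neg]
  congr 1 <;> decide

/-- Witness of projective order 30. -/
def g30 : M6 :=
  fromBlocks !![0, 0, 2; 2, 0, 2; 0, 1, 0] !![0, 0, 2; 1, 0, 2; 0, 0, 0] !![1, 0, 0; 2, 0, 0; 0, 0, 0] !![0, 0, 2; 0, 0, 0; 0, 1, 0]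

theorem g30_mem : g30 ∈ symplecticGroup (Fin 3) (ZMod 3) := by
  rw [g30, SymplecticGroup.fromBlocks_mem_iff]
  decide

/-- The power `g30 ^ 2`. -/
def g30p2 : M6 :=
  fromBlocks !![0, 2, 0; 1, 2, 1; 2, 0, 2] !![0, 2, 0; 0, 2, 0; 1, 0, 2] !![0, 0, 2; 0, 0, 1; 2, 0, 0] !![0, 2, 2; 0, 0, 1; 0, 0, 0]

theorem g30_pow2 : g30 ^ 2 = g30p2 := by
  rw [pow_two, g30, g30p2, fromBlocks_multiply]
  congr 1 <;> decide

/-- The power `g30 ^ 4`. -/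
def g30p4 : M6 :=
  fromBlocks !![2, 1, 1; 1, 0, 0; 2, 1, 0] !![0, 1, 2; 1, 0, 1; 2, 0, 0] !![2, 0, 0; 1, 0, 2; 0, 1, 0] !![2, 0, 0; 1, 0, 2; 0, 1, 0]

theorem g30_pow4 : g30 ^ 4 = g30p4 := by
  rw [show (4 : ℕ) = 2 + 2 from rfl, pow_add, g30_pow2, g30p2, g30p4, fromBlocks_multiply]
  congr 1 <;> decide

/-- The power `g30 ^ 6`. -/
def g30p6 : M6 :=
  fromBlocks !![1, 0, 1; 2, 2, 2; 1, 0, 2] !![1, 0, 0; 0, 1, 2; 0, 1, 1] !![0, 1, 1; 2, 2, 0; 1, 2, 2] !![0, 2, 1; 2, 1, 0; 0, 2, 1]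

theorem g30_pow6 : g30 ^ 6 = g30p6 := by
  rw [show (6 : ℕ) = 4 + 2 from rfl, pow_add, g30_pow4, g30_pow2, g30p4, g30p2, g30p6, fromBlocks_multiply]
  congr 1 <;> decide

/-- The power `g30 ^ 10`. -/
def g30p10 : M6 :=
  fromBlocks !![0, 2, 1; 2, 0, 1; 1, 1, 0] !![1, 1, 2; 1, 1, 2; 2, 2, 1] !![2, 2, 1; 2, 2, 1; 1, 1, 2] !![2, 1, 2; 1, 2, 2; 2, 2, 2]

theorem g30_pow10 : g30 ^ 10 = g30p10 := by
  rw [show (10 : ℕ) = 6 + 4 from rfl, pow_add, g30_pow6, g30_pow4, g30p6, g30p4, g30p10, fromBlocks_multiply]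
  congr 1 <;> decide

/-- The power `g30 ^ 5`. -/
def g30p5 : M6 :=
  fromBlocks !![1, 1, 0; 1, 0, 2; 1, 0, 0] !![1, 2, 0; 0, 1, 1; 1, 0, 1] !![2, 0, 1; 1, 2, 2; 1, 0, 2] !![0, 0, 2; 0, 2, 1; 1, 0, 2]

theorem g30_pow5 : g30 ^ 5 = g30p5 := by
  rw [show (5 : ℕ) = 4 + 1 from rfl, pow_succ, g30_pow4, g30p4, g30, g30p5, fromBlocks_multiply]
  congr 1 <;> decide

/-- The power `g30 ^ 15`. -/
def g30p15 : M6 :=
  fromBlocks !![2, 2, 2; 2, 1, 1; 0, 2, 1] !![0, 1, 1; 2, 0, 2; 2, 1, 0] !![0, 1, 0; 2, 0, 1; 0, 2, 0] !![2, 2, 0; 2, 1, 2; 2, 1, 1]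

theorem g30_pow15 : g30 ^ 15 = g30p15 := by
  rw [show (15 : ℕ) = 10 + 5 from rfl, pow_add, g30_pow10, g30_pow5, g30p10, g30p5, g30p15, fromBlocks_multiply]
  congr 1 <;> decide

/-- The power `g30 ^ 30`. -/
def g30p30 : M6 :=
  fromBlocks !![1, 0, 0; 0, 1, 0; 0, 0, 1] !![0, 0, 0; 0, 0, 0; 0, 0, 0] !![0, 0, 0; 0, 0, 0; 0, 0, 0] !![1, 0, 0; 0, 1, 0; 0, 0, 1]

theorem g30_pow30 : g30 ^ 30 = g30p30 := by
  rw [show (30 : ℕ) = 15 + 15 from rfl, pow_add, g30_pow15, g30p15, g30p30, fromBlocks_multiply]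
  congr 1 <;> decide

theorem g30_pow_eq : g30 ^ 30 = 1 := by
  rw [g30_pow30, g30p30, one_eq]

/-- A symplectic transvection. -/
def h0 : M6 :=
  fromBlocks !![1, 0, 0; 0, 1, 0; 0, 0, 1] !![0, 0, 0; 0, 0, 0; 0, 0, 0] !![0, 0, 0; 0, 0, 0; 0, 0, 1] !![1, 0, 0; 0, 1, 0; 0, 0, 1]

theorem h0_mem : h0 ∈ symplecticGroup (Fin 3) (ZMod 3) := by
  rw [h0, SymplecticGroup.fromBlocks_mem_iff]
  decide

theorem g30_nc15 : g30 ^ 15 * h0 ≠ h0 * g30 ^ 15 := by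
  rw [g30_pow15, g30p15, h0, fromBlocks_multiply, fromBlocks_multiply]
  intro h
  rw [fromBlocks_inj] at h
  revert h
  decide

theorem g30_nc10 : g30 ^ 10 * h0 ≠ h0 * g30 ^ 10 := by
  rw [g30_pow10, g30p10, h0, fromBlocks_multiply, fromBlocks_multiply]
  intro h
  rw [fromBlocks_inj] at h
  revert h
  decide

theorem g30_nc6 : g30 ^ 6 * h0 ≠ h0 * g30 ^ 6 := by
  rw [g30_pow6, g30p6, h0, fromBlocks_multiply, fromBlocks_multiply]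
  intro h
  rw [fromBlocks_inj] at h
  revert h
  decide

/-- Witness of projective order 14. -/
def g14 : M6 :=
  fromBlocks !![0, 0, 1; 0, 2, 0; 0, 0, 0] !![0, 0, 0; 0, 2, 0; 2, 0, 0] !![0, 1, 0; 0, 1, 2; 1, 0, 0] !![0, 1, 1; 0, 0, 0; 1, 0, 0]

theorem g14_mem : g14 ∈ symplecticGroup (Fin 3) (ZMod 3) := by
  rw [g14, SymplecticGroup.fromBlocks_mem_iff]
  decide

/-- The power `g14 ^ 2`. -/
def g14p2 : M6 :=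
  fromBlocks !![0, 0, 0; 0, 0, 1; 0, 2, 0] !![2, 0, 0; 0, 1, 0; 0, 2, 2] !![1, 0, 2; 0, 2, 0; 0, 1, 1] !![1, 2, 0; 1, 2, 0; 0, 1, 1]

theorem g14_pow2 : g14 ^ 2 = g14p2 := by
  rw [pow_two, g14, g14p2, fromBlocks_multiply]
  congr 1 <;> decide

/-- The power `g14 ^ 4`. -/
def g14p4 : M6 :=
  fromBlocks !![2, 0, 1; 0, 1, 0; 0, 0, 1] !![2, 1, 0; 1, 1, 2; 2, 2, 2] !![1, 2, 2; 1, 1, 1; 0, 2, 2] !![2, 1, 1; 0, 2, 0; 1, 0, 0]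

theorem g14_pow4 : g14 ^ 4 = g14p4 := by
  rw [show (4 : ℕ) = 2 + 2 from rfl, pow_add, g14_pow2, g14p2, g14p4, fromBlocks_multiply]
  congr 1 <;> decide

/-- The power `g14 ^ 6`. -/
def g14p6 : M6 :=
  fromBlocks !![2, 1, 1; 1, 1, 2; 2, 2, 0] !![1, 2, 2; 2, 1, 2; 1, 0, 1] !![2, 1, 1; 0, 0, 1; 1, 1, 1] !![2, 1, 2; 1, 1, 2; 1, 2, 1]

theorem g14_pow6 : g14 ^ 6 = g14p6 := by
  rw [show (6 : ℕ) = 4 + 2 from rfl, pow_add, g14_pow4, g14_pow2, g14p4, g14p2, g14p6, fromBlocks_multiply]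
  congr 1 <;> decide

/-- The power `g14 ^ 7`. -/
def g14p7 : M6 :=
  fromBlocks !![2, 2, 0; 2, 2, 0; 1, 2, 2] !![1, 0, 1; 0, 1, 2; 1, 2, 1] !![2, 2, 1; 2, 2, 2; 1, 2, 2] !![1, 1, 2; 1, 1, 1; 0, 0, 1]

theorem g14_pow7 : g14 ^ 7 = g14p7 := by
  rw [show (7 : ℕ) = 6 + 1 from rfl, pow_succ, g14_pow6, g14p6, g14, g14p7, fromBlocks_multiply]
  congr 1 <;> decide

/-- The power `g14 ^ 14`. -/
def g14p14 : M6 :=
  fromBlocks !![2, 0, 0; 0, 2, 0; 0, 0, 2] !![0, 0, 0; 0, 0, 0; 0, 0, 0] !![0, 0, 0; 0, 0, 0; 0, 0, 0] !![2, 0, 0; 0, 2, 0; 0, 0, 2]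

theorem g14_pow14 : g14 ^ 14 = g14p14 := by
  rw [show (14 : ℕ) = 7 + 7 from rfl, pow_add, g14_pow7, g14p7, g14p14, fromBlocks_multiply]
  congr 1 <;> decide

theorem g14_pow_eq : g14 ^ 14 = -1 := by
  rw [g14_pow14, g14p14, neg_one_eq]

theorem g14_nc7 : g14 ^ 7 * h0 ≠ h0 * g14 ^ 7 := by
  rw [g14_pow7, g14p7, h0, fromBlocks_multiply, fromBlocks_multiply]
  intro h
  rw [fromBlocks_inj] at h
  revert h
  decide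

theorem g14_nc2 : g14 ^ 2 * h0 ≠ h0 * g14 ^ 2 := by
  rw [g14_pow2, g14p2, h0, fromBlocks_multiply, fromBlocks_multiply]
  intro h
  rw [fromBlocks_inj] at h
  revert h
  decide

/-- Witness of projective order 13. -/
def g13 : M6 :=
  fromBlocks !![0, 1, 2; 1, 2, 0; 0, 1, 0] !![0, 0, 0; 0, 0, 0; 0, 0, 0] !![0, 0, 0; 0, 0, 0; 0, 2, 0] !![0, 0, 2; 1, 0, 0; 1, 1, 1]

theorem g13_mem : g13 ∈ symplecticGroup (Fin 3) (ZMod 3) := by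
  rw [g13, SymplecticGroup.fromBlocks_mem_iff]
  decide

/-- The power `g13 ^ 2`. -/
def g13p2 : M6 :=
  fromBlocks !![1, 1, 0; 2, 2, 2; 1, 2, 0] !![0, 0, 0; 0, 0, 0; 0, 0, 0] !![0, 1, 0; 0, 0, 0; 2, 0, 0] !![2, 2, 2; 0, 0, 2; 2, 1, 0]

theorem g13_pow2 : g13 ^ 2 = g13p2 := by
  rw [pow_two, g13, g13p2, fromBlocks_multiply]
  congr 1 <;> decide

/-- The power `g13 ^ 4`. -/
def g13p4 : M6 :=
  fromBlocks !![0, 0, 2; 2, 1, 1; 2, 2, 1] !![0, 0, 0; 0, 0, 0; 0, 0, 0] !![0, 1, 2; 1, 0, 0; 2, 1, 0] !![2, 0, 2; 1, 2, 0; 1, 1, 0]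

theorem g13_pow4 : g13 ^ 4 = g13p4 := by
  rw [show (4 : ℕ) = 2 + 2 from rfl, pow_add, g13_pow2, g13p2, g13p4, fromBlocks_multiply]
  congr 1 <;> decide

/-- The power `g13 ^ 8`. -/
def g13p8 : M6 :=
  fromBlocks !![1, 1, 2; 1, 0, 0; 0, 1, 1] !![0, 0, 0; 0, 0, 0; 0, 0, 0] !![1, 0, 1; 2, 1, 1; 0, 2, 1] !![0, 2, 1; 1, 1, 2; 0, 2, 2]

theorem g13_pow8 : g13 ^ 8 = g13p8 := by
  rw [show (8 : ℕ) = 4 + 4 from rfl, pow_add, g13_pow4, g13p4, g13p8, fromBlocks_multiply]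
  congr 1 <;> decide

/-- The power `g13 ^ 12`. -/
def g13p12 : M6 :=
  fromBlocks !![0, 2, 2; 0, 0, 2; 1, 0, 2] !![0, 0, 0; 0, 0, 0; 0, 0, 0] !![0, 0, 0; 0, 0, 2; 0, 0, 0] !![0, 2, 0; 2, 1, 2; 1, 0, 0]

theorem g13_pow12 : g13 ^ 12 = g13p12 := by
  rw [show (12 : ℕ) = 8 + 4 from rfl, pow_add, g13_pow8, g13_pow4, g13p8, g13p4, g13p12, fromBlocks_multiply]
  congr 1 <;> decide

/-- The power `g13 ^ 13`. -/
def g13p13 : M6 :=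
  fromBlocks !![2, 0, 0; 0, 2, 0; 0, 0, 2] !![0, 0, 0; 0, 0, 0; 0, 0, 0] !![0, 0, 0; 0, 0, 0; 0, 0, 0] !![2, 0, 0; 0, 2, 0; 0, 0, 2]

theorem g13_pow13 : g13 ^ 13 = g13p13 := by
  rw [show (13 : ℕ) = 12 + 1 from rfl, pow_succ, g13_pow12, g13p12, g13, g13p13, fromBlocks_multiply]
  congr 1 <;> decide

theorem g13_pow_eq : g13 ^ 13 = -1 := by
  rw [g13_pow13, g13p13, neg_one_eq]

theorem g13_nc1 : g13 * h0 ≠ h0 * g13 := by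
  rw [g13, h0, fromBlocks_multiply, fromBlocks_multiply]
  intro h
  rw [fromBlocks_inj] at h
  revert h
  decide

end Cfsg.Agent.Lib.Helper61.Sp63W
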