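import Mathlib
import Cfsg.Prelude.Def_Sz
import Cfsg.Agent.S3639

set_option autoImplicit false

namespace Cfsg.Agent.Lib.Helper61.Sz8Mat

open Matrix Polynomial
open Cfsg.Agent.S3639

/-- The second coefficient of the characteristic polynomial of a Suzuki matrix. -/
theorem c2_eq {F : Type*} [Field F] (h2 : (2 : F) = 0) (θ : F →+* F)
    (A : Matrix (Fin 4) (Fin 4) F) (hA : Aᵀ * J4 F * A = J4 F)
    (hstar : Cfsg.Lie.star4 A = A.map θ) : c2 A = θ A.trace := by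
  have h3 : (Cfsg.Lie.star4 A).trace = (A.map θ).trace := by rw [hstar]
  have h4 : (A.map θ).trace = θ A.trace := by
    simp [Matrix.trace, Fin.sum_univ_four]
  have h5 : (Cfsg.Lie.star4 A).trace
      = c2 A - (A 0 0 * A 3 3 - A 0 3 * A 3 0) - (A 1 1 * A 2 2 - A 1 2 * A 2 1) := by
    simp only [Matrix.trace, Matrix.diag, Fin.sum_univ_four, star4_apply, c2]
    simp [Cfsg.Lie.pairOf]
    ring
  have r03 : A 0 0 * A 3 3 + A 1 0 * A 2 3 + A 2 0 * A 1 3 + A 3 0 * A 0 3 = 1 := by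
    rw [← AtJA_apply, hA]; simp [J4]
  have r12 : A 1 0 * A 2 3 + A 1 1 * A 2 2 + A 1 2 * A 2 1 + A 1 3 * A 2 0 = 1 := by
    rw [← AJAt_apply, dual_rel A hA]; simp [J4]
  rw [← h4, ← h3, h5]
  linear_combination r03 + r12 + (1 - A 1 0 * A 2 3 - A 2 0 * A 1 3 - A 0 3 * A 3 0 - A 1 2 * A 2 1) * h2

/-- Cayley-Hamilton for a Suzuki matrix: the characteristic polynomial is
`X^4 + t X^3 + t^4 X^2 + t X + 1` with `t` the trace. -/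
theorem sz_aeval {F : Type*} [Field F] (h2 : (2 : F) = 0) (θ : F →+* F) (hθ : ∀ x, θ x = x ^ 4)
    (A : Matrix (Fin 4) (Fin 4) F) (hA : Aᵀ * J4 F * A = J4 F)
    (hstar : Cfsg.Lie.star4 A = A.map θ) :
    aeval A (X ^ 4 + C A.trace * X ^ 3 + C (A.trace ^ 4) * X ^ 2 + C A.trace * X + 1 : F[X]) = 0 := by
  have hdet := det_eq_one h2 A hA
  have hadj := trace_adjugate h2 A hA
  have hch := ch4 A
  rw [hdet, hadj, c2_eq h2 θ A hA hstar, hθ] at hch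
  simp only [map_add, map_mul, aeval_X_pow, aeval_X, aeval_C, map_one, ← Algebra.smul_def]
  have h3 : A ^ 4 + A.trace • A ^ 3 + A.trace ^ 4 • A ^ 2 + A.trace • A + 1
      = (A ^ 4 - A.trace • A ^ 3 + A.trace ^ 4 • A ^ 2 - A.trace • A + (1 : F) • (1 : Matrix (Fin 4) (Fin 4) F))
        + (2 : F) • (A.trace • A ^ 3 + A.trace • A) := by
    rw [two_smul, one_smul]
    abel
  rw [h3, hch, h2, zero_smul, add_zero]

/-- Element orders of Suzuki matrices over the field with eight elements. -/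
theorem sz_pow {F : Type*} [Field F] (h2 : (2 : F) = 0) (h8 : ∀ x : F, x ^ 8 = x)
    (A : Matrix (Fin 4) (Fin 4) F) (t : F)
    (hP : aeval A (X ^ 4 + C t * X ^ 3 + C (t ^ 4) * X ^ 2 + C t * X + 1 : F[X]) = 0) :
    (t = 0 ∧ A ^ 4 = 1) ∨ (t = 1 ∧ A ^ 5 = 1) ∨ (t ^ 3 + t + 1 = 0 ∧ A ^ 7 = 1)
      ∨ (t ^ 3 + t ^ 2 + 1 = 0 ∧ A ^ 13 = 1) := by
  have h2' : (2 : F[X]) = 0 := by
    have h : (2 : F[X]) = C (2 : F) := (map_ofNat C 2).symm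
    rw [h, h2, C_0]
  have ht8 := h8 t
  have hfac : t * (t + 1) * (t ^ 3 + t + 1) * (t ^ 3 + t ^ 2 + 1) = 0 := by
    linear_combination ht8 + (t + t ^ 2 + t ^ 3 + 2 * t ^ 4 + 2 * t ^ 5 + t ^ 6 + t ^ 7) * h2
  have key : ∀ (N : ℕ) (Q : F[X]),
      (X ^ N - 1 : F[X]) = (X ^ 4 + C t * X ^ 3 + C (t ^ 4) * X ^ 2 + C t * X + 1) * Q → A ^ N = 1 := by
    intro N Q hk
    have h := congrArg (aeval A) hk
    rw [map_mul, hP, zero_mul] at h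
    simp only [map_sub, map_pow, aeval_X, map_one] at h
    exact sub_eq_zero.1 h
  rcases mul_eq_zero.1 hfac with h | h
  · rcases mul_eq_zero.1 h with h | h
    · rcases mul_eq_zero.1 h with h | h
      · refine Or.inl ⟨h, key 4 1 ?_⟩
        rw [h]
        simp only [C_0, zero_pow (by norm_num : (4 : ℕ) ≠ 0)]
        linear_combination (-1 : F[X]) * h2'
      · have ht : t = 1 := by linear_combination h - h2
        refine Or.inr (Or.inl ⟨ht, key 5 (X + 1) ?_⟩)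
        rw [ht]
        simp only [C_1, one_pow]
        linear_combination (-1 - X - X ^ 2 - X ^ 3 - X ^ 4 : F[X]) * h2'
    · have hrel : (C t) ^ 3 + C t + 1 = (0 : F[X]) := by
        rw [← C_pow, ← C_add, ← C_1, ← C_add, h, C_0]
      refine Or.inr (Or.inr (Or.inl ⟨h, key 7 (1 + X * C t + X ^ 2 * C t + X ^ 3) ?_⟩))
      rw [C_pow]
      linear_combination (X ^ 2 * C t + X ^ 3 + X ^ 3 * C t ^ 2 + X ^ 4 + X ^ 4 * C t ^ 2 + X ^ 5 * C t) * hrel + (-1 - X * C t - X ^ 2 * C t - X ^ 2 * C t ^ 2 - X ^ 2 * C t ^ 4 - X ^ 3 - X ^ 3 * C t - X ^ 3 * C t ^ 2 - X ^ 3 * C t ^ 3 - X ^ 3 * C t ^ 5 - X ^ 4 - X ^ 4 * C t - X ^ 4 * C t ^ 2 - X ^ 4 * C t ^ 3 - X ^ 4 * C t ^ 5 - X ^ 5 * C t - X ^ 5 * C t ^ 2 - X ^ 5 * C t ^ 4 - X ^ 6 * C t) * h2'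
  · have hrel : (C t) ^ 3 + (C t) ^ 2 + 1 = (0 : F[X]) := by
      rw [← C_pow, ← C_pow, ← C_add, ← C_1, ← C_add, h, C_0]
    refine Or.inr (Or.inr (Or.inr ⟨h, key 13 (1 + X * C t + X ^ 2 + X ^ 2 * C t + X ^ 3 + X ^ 3 * C t + X ^ 3 * C t ^ 2 + X ^ 4 * C t + X ^ 5 * C t + X ^ 6 + X ^ 6 * C t + X ^ 6 * C t ^ 2 + X ^ 7 + X ^ 7 * C t + X ^ 8 * C t + X ^ 9) ?_⟩))
    rw [C_pow]
    linear_combination (X ^ 2 + X ^ 2 * C t + X ^ 3 + X ^ 3 * C t + X ^ 3 * C t ^ 2 + X ^ 4 + X ^ 4 * C t ^ 2 + X ^ 5 * C t + X ^ 5 * C t ^ 3 + X ^ 6 * C t + X ^ 6 * C t ^ 2 + X ^ 7 * C t + X ^ 7 * C t ^ 2 + X ^ 8 * C t + X ^ 8 * C t ^ 3 + X ^ 9 + X ^ 9 * C t ^ 2 + X ^ 10 + X ^ 10 * C t + X ^ 10 * C t ^ 2 + X ^ 11 + X ^ 11 * C t) * hrel + (-1 - X * C t - X ^ 2 - X ^ 2 * C t - X ^ 2 * C t ^ 2 - X ^ 2 * C t ^ 3 - X ^ 2 * C t ^ 4 - X ^ 3 - 2 * X ^ 3 * C t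 - 2 * X ^ 3 * C t ^ 2 - X ^ 3 * C t ^ 3 - X ^ 3 * C t ^ 4 - X ^ 3 * C t ^ 5 - X ^ 4 - X ^ 4 * C t - 2 * X ^ 4 * C t ^ 2 - X ^ 4 * C t ^ 3 - X ^ 4 * C t ^ 4 - X ^ 4 * C t ^ 5 - 2 * X ^ 5 * C t - X ^ 5 * C t ^ 2 - X ^ 5 * C t ^ 3 - X ^ 5 * C t ^ 4 - X ^ 5 * C t ^ 5 - X ^ 5 * C t ^ 6 - X ^ 6 - 2 * X ^ 6 * C t - 2 * X ^ 6 * C t ^ 2 - X ^ 6 * C t ^ 3 - X ^ 6 * C t ^ 4 - X ^ 6 * C t ^ 5 - X ^ 7 - 2 * X ^ 7 * C t - 2 * X ^ 7 * C t ^ 2 - X ^ 7 * C t ^ 3 - X ^ 7 * C t ^ 4 - X ^ 7 * C t ^ 5 - 2 * X ^ 8 * C t - X ^ 8 * C t ^ 2 - X ^ 8 * C t ^ 3 - X ^ 8 * C t ^ 4 - X ^ 8 * C t ^ 5 - X ^ 8 * C t ^ 6 - X ^ 9 - X ^ 9 * C t - 2 * X ^ 9 * C t ^ 2 - X ^ 9 * C t ^ 3 - X ^ 9 * C t ^ 4 - X ^ 9 * C t ^ 5 - X ^ 10 - 2 * X ^ 10 * C t - 2 * X ^ 10 * C t ^ 2 - X ^ 10 * C t ^ 3 - X ^ 10 * C t ^ 4 - X ^ 10 * C t ^ 5 - X ^ 11 - X ^ 11 * C t - X ^ 11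 * C t ^ 2 - X ^ 11 * C t ^ 3 - X ^ 11 * C t ^ 4 - X ^ 12 * C t) * h2'

/-- An intertwiner between a matrix with the characteristic polynomial of an element of
order 13 and one with the Frobenius-twisted characteristic polynomial vanishes. -/
theorem sz_fpf {F : Type*} [Field F] (h2 : (2 : F) = 0)
    (A : Matrix (Fin 4) (Fin 4) F) (t : F) (ht : t ^ 3 + t ^ 2 + 1 = 0)
    (hA : aeval A (X ^ 4 + C t * X ^ 3 + C (t ^ 4) * X ^ 2 + C t * X + 1 : F[X]) = 0)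
    (B : Matrix (Fin 4) (Fin 4) F)
    (hB : aeval B (X ^ 4 + C (t ^ 2) * X ^ 3 + C (t ^ 8) * X ^ 2 + C (t ^ 2) * X + 1 : F[X]) = 0)
    (Y : Matrix (Fin 4) (Fin 4) F) (hY : A * Y = Y * B) : Y = 0 := by
  have h2' : (2 : F[X]) = 0 := by
    have h : (2 : F[X]) = C (2 : F) := (map_ofNat C 2).symm
    rw [h, h2, C_0]
  have hrel : (C t) ^ 3 + (C t) ^ 2 + 1 = (0 : F[X]) := by
    rw [← C_pow, ← C_pow, ← C_add, ← C_1, ← C_add, ht, C_0]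
  have hpow : ∀ n : ℕ, A ^ n * Y = Y * B ^ n := by
    intro n
    induction n with
    | zero => simp
    | succ n ih => rw [pow_succ, Matrix.mul_assoc, hY, ← Matrix.mul_assoc, ih, Matrix.mul_assoc, ← pow_succ]
  have hint : ∀ p : F[X], aeval A p * Y = Y * aeval B p := by
    intro p
    induction p using Polynomial.induction_on' with
    | add p q hp hq => rw [map_add, map_add, add_mul, mul_add, hp, hq]
    | monomial n a =>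
      rw [← C_mul_X_pow_eq_monomial]
      simp only [map_mul, aeval_X_pow, aeval_C, ← Algebra.smul_def]
      rw [Matrix.smul_mul, hpow, Matrix.mul_smul]
  have h1 : aeval A (X ^ 4 + C (t ^ 2) * X ^ 3 + C (t ^ 8) * X ^ 2 + C (t ^ 2) * X + 1 : F[X]) * Y = 0 := by
    rw [hint, hB, mul_zero]
  have hbez : ((1 + C t + C t ^ 2 + X ^ 2 + X ^ 2 * C t + X ^ 2 * C t ^ 2 + X ^ 3 + X ^ 3 * C t) * (X ^ 4 + C t * X ^ 3 + C (t ^ 4) * X ^ 2 + C t * X + 1)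
      + (C t + C t ^ 2 + X + X ^ 3 + X ^ 3 * C t : F[X]) * (X ^ 4 + C (t ^ 2) * X ^ 3 + C (t ^ 8) * X ^ 2 + C (t ^ 2) * X + 1) : F[X]) = 1 := by
    rw [C_pow, C_pow, C_pow]
    linear_combination (X + X * C t + X ^ 2 + X ^ 2 * C t + X ^ 2 * C t ^ 2 + X ^ 2 * C t ^ 4 + X ^ 2 * C t ^ 7 + X ^ 3 * C t ^ 3 + X ^ 3 * C t ^ 4 + X ^ 3 * C t ^ 5 + X ^ 4 + X ^ 4 * C t + X ^ 4 * C t ^ 3 + X ^ 5 + X ^ 5 * C t + X ^ 5 * C t ^ 3 + X ^ 5 * C t ^ 6 + X ^ 6) * hrel + (C t + C t ^ 2 - X ^ 2 * C t ^ 3 - X ^ 2 * C t ^ 4 - X ^ 2 * C t ^ 7 + X ^ 3 + 2 * X ^ 3 * C t + X ^ 3 * C t ^ 2 + X ^ 3 * C t ^ 3 - X ^ 3 * C t ^ 5 - X ^ 3 * C t ^ 6 - X ^ 3 * C t ^ 7 + X ^ 4 * C t + 2 * X ^ 4 * C t ^ 2 - X ^ 4 * C t ^ 3 - X ^ 5 * C t ^ 3 - X ^ 5 * C t ^ 6 + X ^ 6 * C t + X ^ 6 * C t ^ 2 + X ^ 7 + X ^ 7 * C t) * h2'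
  have h3 := congrArg (aeval A) hbez
  rw [map_add, map_mul, map_mul, hA, mul_zero, zero_add, map_one] at h3
  calc Y = 1 * Y := (one_mul Y).symm
    _ = aeval A (C t + C t ^ 2 + X + X ^ 3 + X ^ 3 * C t : F[X]) * aeval A (X ^ 4 + C (t ^ 2) * X ^ 3 + C (t ^ 8) * X ^ 2 + C (t ^ 2) * X + 1 : F[X]) * Y := by
        rw [h3]
    _ = 0 := by rw [mul_assoc, h1, mul_zero]

end Cfsg.Agent.Lib.Helper61.Sz8Mat
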