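import Mathlib
import Cfsg.Prelude.Def_Sz
import Cfsg.Agent.S3639
import Cfsg.Agent.Lib.Helper61.Sz8Mat

set_option autoImplicit false

namespace Cfsg.Agent.Lib.Helper61.Sz8Grp

open Matrix Polynomial
open Cfsg.Agent.S3639
open Cfsg.Agent.Lib.Helper61.Sz8Mat

section basics

variable (F : Type*) [Field F] [CharP F 2]

theorem two_zero : (2 : F) = 0 := by
  have h := CharP.cast_eq_zero F 2
  exact_mod_cast h

/-- The map `x ↦ x ^ 4`. -/
noncomputable def theta : F →+* F := iterateFrobenius F 2 2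

theorem theta_apply (x : F) : theta F x = x ^ 4 := by
  have h := iterateFrobenius_def 2 2 x
  rw [theta, h]
  norm_num

theorem mem_Sz_iff (g : GL (Fin 4) F) : g ∈ Cfsg.Lie.Sz F 4 ↔ SzP 4 g :=
  ⟨fun h => szP_all (two_zero F) 4 (theta F) (theta_apply F) g h, fun h => Subgroup.subset_closure h⟩

theorem altForm_eq (a b : Fin 4 → F) : Cfsg.Lie.altForm4 a b = a ⬝ᵥ (J4 F *ᵥ b) := by
  simp [Cfsg.Lie.altForm4, J4, Matrix.mulVec, dotProduct, Fin.sum_univ_four]

theorem mem_Sp4_of_rel (g : GL (Fin 4) F)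
    (h : (g : Matrix (Fin 4) (Fin 4) F)ᵀ * J4 F * (g : Matrix (Fin 4) (Fin 4) F) = J4 F) :
    g ∈ Cfsg.Lie.Sp4 F := by
  intro u v
  show Cfsg.Lie.altForm4 ((g : Matrix (Fin 4) (Fin 4) F) *ᵥ u) ((g : Matrix (Fin 4) (Fin 4) F) *ᵥ v)
    = Cfsg.Lie.altForm4 u v
  have key : ∀ w : Fin 4 → F, u ⬝ᵥ ((g : Matrix (Fin 4) (Fin 4) F)ᵀ *ᵥ w)
      = ((g : Matrix (Fin 4) (Fin 4) F) *ᵥ u) ⬝ᵥ w := by
    intro w
    rw [Matrix.dotProduct_mulVec, Matrix.vecMul_transpose]
  rw [altForm_eq, altForm_eq]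
  conv_rhs => rw [← h, Matrix.mul_assoc, ← Matrix.mulVec_mulVec, key]
  rw [Matrix.mulVec_mulVec]

/-- Entrywise application of a ring endomorphism on `GL₄`. -/
def gm (τ : F →+* F) : GL (Fin 4) F →* GL (Fin 4) F :=
  Units.map (τ.mapMatrix (m := Fin 4)).toMonoidHom

theorem gm_coe (τ : F →+* F) (g : GL (Fin 4) F) :
    ((gm F τ g : GL (Fin 4) F) : Matrix (Fin 4) (Fin 4) F) = (g : Matrix (Fin 4) (Fin 4) F).map τ := rfl

theorem J4_map (τ : F →+* F) : (J4 F).map τ = J4 F := by
  ext i j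
  fin_cases i <;> fin_cases j <;> simp [J4]

theorem szP_gm (τ : F →+* F) (g : GL (Fin 4) F) (hg : SzP 4 g) : SzP 4 (gm F τ g) := by
  obtain ⟨h1, h2⟩ := hg
  refine ⟨mem_Sp4_of_rel F _ ?_, ?_⟩
  · have h3 := mem_Sp4_rel g h1
    rw [gm_coe]
    calc ((g : Matrix (Fin 4) (Fin 4) F).map τ)ᵀ * J4 F * (g : Matrix (Fin 4) (Fin 4) F).map τ
        = ((g : Matrix (Fin 4) (Fin 4) F)ᵀ * J4 F * (g : Matrix (Fin 4) (Fin 4) F)).map τ := by
          rw [Matrix.map_mul, Matrix.map_mul, J4_map, Matrix.transpose_map]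
      _ = J4 F := by rw [h3, J4_map]
  · rw [gm_coe]
    ext p r
    have h4 := congrFun (congrFun h2 p) r
    rw [star4_apply] at h4 ⊢
    simp only [Matrix.map_apply] at h4 ⊢
    rw [← map_mul, ← map_mul, ← map_sub, h4, map_pow]

theorem gm_mem (τ : F →+* F) {g : GL (Fin 4) F} (hg : g ∈ Cfsg.Lie.Sz F 4) :
    gm F τ g ∈ Cfsg.Lie.Sz F 4 := by
  rw [mem_Sz_iff] at hg ⊢
  exact szP_gm F τ g hg

/-- The automorphism of the Suzuki group induced by a field automorphism. -/
def szAut (τ : F ≃+* F) : MulAut (Cfsg.Lie.Sz F 4) where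
  toFun g := ⟨gm F τ g.1, gm_mem F τ g.2⟩
  invFun g := ⟨gm F τ.symm g.1, gm_mem F τ.symm g.2⟩
  left_inv g := by
    apply Subtype.ext
    apply Units.ext
    show (((g : GL (Fin 4) F) : Matrix (Fin 4) (Fin 4) F).map τ).map τ.symm = _
    ext i j
    simp
  right_inv g := by
    apply Subtype.ext
    apply Units.ext
    show (((g : GL (Fin 4) F) : Matrix (Fin 4) (Fin 4) F).map τ.symm).map τ = _
    ext i j
    simp
  map_mul' g h := by
    apply Subtype.ext
    show gm F τ (g.1 * h.1) = gm F τ g.1 * gm F τ h.1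
    rw [map_mul]

theorem szAut_coe (τ : F ≃+* F) (g : Cfsg.Lie.Sz F 4) :
    ((szAut F τ g : GL (Fin 4) F) : Matrix (Fin 4) (Fin 4) F)
      = ((g : GL (Fin 4) F) : Matrix (Fin 4) (Fin 4) F).map τ := rfl

/-- The action of field automorphisms on the Suzuki group. -/
def psi : (F ≃+* F) →* MulAut (Cfsg.Lie.Sz F 4) where
  toFun := szAut F
  map_one' := by
    ext g i j
    rfl
  map_mul' a b := by
    ext g i j
    rfl

theorem psi_coe (τ : F ≃+* F) (g : Cfsg.Lie.Sz F 4) :
    ((psi F τ g : GL (Fin 4) F) : Matrix (Fin 4) (Fin 4) F)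
      = ((g : GL (Fin 4) F) : Matrix (Fin 4) (Fin 4) F).map τ := rfl

variable [Finite F]

/-- The Frobenius automorphism `x ↦ x ^ 2`. -/
noncomputable def frobE : F ≃+* F := frobeniusEquiv F 2

theorem frobE_apply (x : F) : frobE F x = x ^ 2 := rfl

end basics

noncomputable section semidirect

variable (F : Type*) [Field F] [CharP F 2] [Finite F]

/-- The group of field automorphisms generated by Frobenius. -/
abbrev C3 : Subgroup (F ≃+* F) := Subgroup.zpowers (frobE F)

/-- The extension of the Suzuki group by its field automorphisms. -/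
abbrev SS : Type _ := (Cfsg.Lie.Sz F 4) ⋊[(psi F).comp (C3 F).subtype] (C3 F)

/-- `4 × 4` matrices. -/
abbrev M4 : Type _ := Matrix (Fin 4) (Fin 4) F

instance : Finite (F ≃+* F) :=
  Finite.of_injective (fun e : F ≃+* F => (e : F → F)) DFunLike.coe_injective

instance : Finite (SS F) := Finite.of_equiv _ SemidirectProduct.equivProd.symm

theorem gm_comm (τ : F →+* F) (g : GL (Fin 4) F) :
    gm F τ (gm F (frobE F).toRingHom g) = gm F (frobE F).toRingHom (gm F τ g) := by
  apply Units.ext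
  rw [gm_coe, gm_coe, gm_coe, gm_coe]
  ext i j
  simp [frobE_apply]

/-- The action of `Sz(8):3` on `4 × 4` matrices: `X ↦ n · c(X) · Frob(n)⁻¹`. -/
def act (x : SS F) (X : M4 F) : M4 F :=
  ((x.left : GL (Fin 4) F) : M4 F) * X.map (x.right : F ≃+* F)
    * (((gm F (frobE F).toRingHom (x.left : GL (Fin 4) F))⁻¹ : GL (Fin 4) F) : M4 F)

theorem act_one (X : M4 F) : act F 1 X = X := by
  have h1 : X.map ((1 : C3 F) : F ≃+* F) = X := by
    ext i j
    rfl
  simp only [act, SemidirectProduct.one_left, SemidirectProduct.one_right, OneMemClass.coe_one,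
    map_one, inv_one, Units.val_one, Matrix.one_mul, Matrix.mul_one]
  exact h1

theorem act_add (x : SS F) (X Y : M4 F) : act F x (X + Y) = act F x X + act F x Y := by
  have h1 : (X + Y).map (x.right : F ≃+* F) = X.map (x.right : F ≃+* F) + Y.map (x.right : F ≃+* F) := by
    ext i j
    simp
  simp only [act, h1, Matrix.mul_add, Matrix.add_mul]

theorem act_mul (x y : SS F) (X : M4 F) : act F (x * y) X = act F x (act F y X) := by
  have h1 : (((x * y).left : GL (Fin 4) F)) =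
      (x.left : GL (Fin 4) F) * gm F ((x.right : F ≃+* F) : F →+* F) (y.left : GL (Fin 4) F) := rfl
  have h2 : X.map (((x * y).right : C3 F) : F ≃+* F)
      = (X.map (y.right : F ≃+* F)).map (x.right : F ≃+* F) := by
    ext i j
    rfl
  have h3 : ∀ A B D : M4 F, (A * B * D).map (x.right : F ≃+* F)
      = A.map (x.right : F ≃+* F) * B.map (x.right : F ≃+* F) * D.map (x.right : F ≃+* F) := by
    intro A B D
    have h : (A * B * D).map (((x.right : F ≃+* F) : F →+* F)) =
        A.map (((x.right : F ≃+* F) : F →+* F)) * B.map (((x.right : F ≃+* F) : F →+* F))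
          * D.map (((x.right : F ≃+* F) : F →+* F)) := by
      rw [Matrix.map_mul, Matrix.map_mul]
    exact h
  have h4 : ((((gm F (frobE F).toRingHom (y.left : GL (Fin 4) F))⁻¹ : GL (Fin 4) F) : M4 F)).map
      (x.right : F ≃+* F) =
      (((gm F (frobE F).toRingHom (gm F ((x.right : F ≃+* F) : F →+* F) (y.left : GL (Fin 4) F)))⁻¹ :
        GL (Fin 4) F) : M4 F) := by
    rw [← gm_comm, ← map_inv]
    rfl
  have h5 : (((y.left : GL (Fin 4) F) : M4 F)).map (x.right : F ≃+* F)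
      = ((gm F ((x.right : F ≃+* F) : F →+* F) (y.left : GL (Fin 4) F) : GL (Fin 4) F) : M4 F) := rfl
  unfold act
  rw [h1, h2, h3, h4, h5, map_mul, _root_.mul_inv_rev, Units.val_mul, Units.val_mul]
  simp only [Matrix.mul_assoc]

/-- The action as an automorphism of the additive group of matrices, written multiplicatively. -/
def actAut (x : SS F) : MulAut (Multiplicative (M4 F)) where
  toFun X := Multiplicative.ofAdd (act F x (Multiplicative.toAdd X))
  invFun X := Multiplicative.ofAdd (act F x⁻¹ (Multiplicative.toAdd X))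
  left_inv X := by
    show Multiplicative.ofAdd (act F x⁻¹ (act F x (Multiplicative.toAdd X))) = X
    rw [← act_mul, inv_mul_cancel, act_one]
    rfl
  right_inv X := by
    show Multiplicative.ofAdd (act F x (act F x⁻¹ (Multiplicative.toAdd X))) = X
    rw [← act_mul, mul_inv_cancel, act_one]
    rfl
  map_mul' X Y := by
    show Multiplicative.ofAdd (act F x (Multiplicative.toAdd X + Multiplicative.toAdd Y)) = _
    rw [act_add]
    rfl

/-- The action as a homomorphism. -/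
def actHom : SS F →* MulAut (Multiplicative (M4 F)) where
  toFun := actAut F
  map_one' := by
    apply MulEquiv.ext
    intro X
    show Multiplicative.ofAdd (act F 1 (Multiplicative.toAdd X)) = X
    rw [act_one]
    rfl
  map_mul' x y := by
    apply MulEquiv.ext
    intro X
    show Multiplicative.ofAdd (act F (x * y) (Multiplicative.toAdd X))
      = Multiplicative.ofAdd (act F x (act F y (Multiplicative.toAdd X)))
    rw [act_mul]

theorem actHom_apply (x : SS F) (X : Multiplicative (M4 F)) :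
    actHom F x X = Multiplicative.ofAdd (act F x (Multiplicative.toAdd X)) := rfl

end semidirect

noncomputable section orders

variable (F : Type*) [Field F] [CharP F 2] [Fintype F] (hF : Fintype.card F = 8)

include hF in
theorem pow8 (x : F) : x ^ 8 = x := by
  have h := FiniteField.pow_card x
  rwa [hF] at h

omit [Fintype F] in
theorem sz_elem_aeval (n : Cfsg.Lie.Sz F 4) :
    aeval ((n : GL (Fin 4) F) : M4 F)
      (X ^ 4 + C ((n : GL (Fin 4) F) : M4 F).trace * X ^ 3
        + C (((n : GL (Fin 4) F) : M4 F).trace ^ 4) * X ^ 2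
        + C ((n : GL (Fin 4) F) : M4 F).trace * X + 1 : F[X]) = 0 := by
  have hP := (mem_Sz_iff F n.1).1 n.2
  have hA := mem_Sp4_rel n.1 hP.1
  have hfun : (fun x : F => x ^ 4) = ⇑(theta F) := funext fun x => (theta_apply F x).symm
  have hstar : Cfsg.Lie.star4 ((n : GL (Fin 4) F) : M4 F) = ((n : GL (Fin 4) F) : M4 F).map (theta F) := by
    rw [hP.2, hfun]
  exact sz_aeval (two_zero F) (theta F) (theta_apply F) _ hA hstar

include hF in
theorem sz_elem (n : Cfsg.Lie.Sz F 4) :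
    (((n : GL (Fin 4) F) : M4 F).trace = 0 ∧ n ^ 4 = 1)
      ∨ (((n : GL (Fin 4) F) : M4 F).trace = 1 ∧ n ^ 5 = 1)
      ∨ (((n : GL (Fin 4) F) : M4 F).trace ^ 3 + ((n : GL (Fin 4) F) : M4 F).trace + 1 = 0 ∧ n ^ 7 = 1)
      ∨ (((n : GL (Fin 4) F) : M4 F).trace ^ 3 + ((n : GL (Fin 4) F) : M4 F).trace ^ 2 + 1 = 0
          ∧ n ^ 13 = 1) := by
  have key : ∀ k : ℕ, ((n : GL (Fin 4) F) : M4 F) ^ k = 1 → n ^ k = 1 := by
    intro k hk
    apply Subtype.ext
    apply Units.ext
    simpa using hk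
  rcases sz_pow (two_zero F) (pow8 F hF) _ _ (sz_elem_aeval F n) with ⟨h1, h2⟩ | ⟨h1, h2⟩ |
    ⟨h1, h2⟩ | ⟨h1, h2⟩
  · exact Or.inl ⟨h1, key _ h2⟩
  · exact Or.inr (Or.inl ⟨h1, key _ h2⟩)
  · exact Or.inr (Or.inr (Or.inl ⟨h1, key _ h2⟩))
  · exact Or.inr (Or.inr (Or.inr ⟨h1, key _ h2⟩))

include hF in
theorem frob_pow3 : frobE F ^ 3 = 1 := by
  ext x
  show frobE F (frobE F (frobE F x)) = x
  rw [frobE_apply, frobE_apply, frobE_apply]
  have h := pow8 F hF x
  calc ((x ^ 2) ^ 2) ^ 2 = x ^ 8 := by ring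
    _ = x := h

include hF in
theorem c3_pow3 (c : C3 F) : c ^ 3 = 1 := by
  obtain ⟨k, hk⟩ := Subgroup.mem_zpowers_iff.1 c.2
  have h1 : (c : F ≃+* F) ^ 3 = 1 := by
    rw [← hk, ← zpow_natCast, ← _root_.zpow_mul, mul_comm, _root_.zpow_mul, zpow_natCast,
      frob_pow3 F hF, _root_.one_zpow]
  apply Subtype.ext
  rw [Subgroup.coe_pow, h1]
  rfl

include hF in
theorem c3_fix (c : C3 F) (hc : c ≠ 1) (t : F) (ht : (c : F ≃+* F) t = t) : t ^ 2 = t := by
  obtain ⟨k, hk⟩ := Subgroup.mem_zpowers_iff.1 c.2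
  have h3 : frobE F ^ (3 : ℤ) = 1 := by
    rw [show (3 : ℤ) = ((3 : ℕ) : ℤ) from rfl, zpow_natCast]
    exact frob_pow3 F hF
  have h4 := zpow_eq_zpow_emod k h3
  rw [hk] at h4
  have hr : k % 3 = 0 ∨ k % 3 = 1 ∨ k % 3 = 2 := by omega
  rcases hr with h | h | h
  · exfalso
    rw [h, zpow_zero] at h4
    exact hc (Subtype.ext h4)
  · rw [h, zpow_one] at h4
    rw [h4, frobE_apply] at ht
    exact ht
  · rw [h, show (2 : ℤ) = ((2 : ℕ) : ℤ) from rfl, zpow_natCast, pow_two] at h4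
    rw [h4] at ht
    have ht' : (t ^ 2) ^ 2 = t := ht
    have h8 := pow8 F hF t
    linear_combination (-(t ^ 4) - t) * ht' + h8

include hF in
theorem cube_eq (x : SS F) :
    x ^ 3 = SemidirectProduct.inl (x.left * psi F (x.right : F ≃+* F) x.left
      * psi F ((x.right : F ≃+* F) * (x.right : F ≃+* F)) x.left) := by
  have h3 := c3_pow3 F hF x.right
  rw [pow_succ, pow_two]
  ext1
  · rfl
  · show x.right * x.right * x.right = 1
    rw [← h3, pow_succ, pow_two]

omit [CharP F 2] [Fintype F] in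
theorem trace_map (τ : F →+* F) (M : Matrix (Fin 4) (Fin 4) F) : τ M.trace = (M.map τ).trace := by
  simp [Matrix.trace, Fin.sum_univ_four]

include hF in
theorem norm_trace (n : Cfsg.Lie.Sz F 4) (c : C3 F) :
    (c : F ≃+* F) (((n * psi F (c : F ≃+* F) n * psi F ((c : F ≃+* F) * (c : F ≃+* F)) n :
      Cfsg.Lie.Sz F 4) : GL (Fin 4) F) : M4 F).trace
    = (((n * psi F (c : F ≃+* F) n * psi F ((c : F ≃+* F) * (c : F ≃+* F)) n :
      Cfsg.Lie.Sz F 4) : GL (Fin 4) F) : M4 F).trace := by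
  have hc3 : ∀ a : F, (c : F ≃+* F) ((c : F ≃+* F) ((c : F ≃+* F) a)) = a := by
    intro a
    have h := c3_pow3 F hF c
    have h' : (c : F ≃+* F) ^ 3 = 1 := by
      rw [← Subgroup.coe_pow, h]
      rfl
    have h'' := congrArg (fun e : F ≃+* F => e a) h'
    exact h''
  have hmul : ∀ P Q R : M4 F, (P * Q * R).map (c : F ≃+* F)
      = P.map (c : F ≃+* F) * Q.map (c : F ≃+* F) * R.map (c : F ≃+* F) := by
    intro P Q R
    have h : (P * Q * R).map (((c : F ≃+* F) : F →+* F)) =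
        P.map (((c : F ≃+* F) : F →+* F)) * Q.map (((c : F ≃+* F) : F →+* F))
          * R.map (((c : F ≃+* F) : F →+* F)) := by
      rw [Matrix.map_mul, Matrix.map_mul]
    exact h
  have key : ∀ A : M4 F, (∀ i j, (c : F ≃+* F) ((c : F ≃+* F) ((c : F ≃+* F) (A i j))) = A i j) →
      (c : F ≃+* F) (A * A.map (c : F ≃+* F) * (A.map (c : F ≃+* F)).map (c : F ≃+* F)).trace
      = (A * A.map (c : F ≃+* F) * (A.map (c : F ≃+* F)).map (c : F ≃+* F)).trace := by
    intro A hA
    have h5 : ((A.map (c : F ≃+* F)).map (c : F ≃+* F)).map (c : F ≃+* F) = A := by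
      ext i j
      exact hA i j
    have h1 := trace_map F ((c : F ≃+* F) : F →+* F)
      (A * A.map (c : F ≃+* F) * (A.map (c : F ≃+* F)).map (c : F ≃+* F))
    have h2 : (A * A.map (c : F ≃+* F) * (A.map (c : F ≃+* F)).map (c : F ≃+* F)).map
        (((c : F ≃+* F) : F →+* F))
        = A.map (c : F ≃+* F) * (A.map (c : F ≃+* F)).map (c : F ≃+* F) * A := by
      have h6 := hmul A (A.map (c : F ≃+* F)) ((A.map (c : F ≃+* F)).map (c : F ≃+* F))
      rw [h5] at h6
      exact h6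
    rw [h2] at h1
    exact h1.trans (Matrix.trace_mul_cycle _ _ _)
  exact key _ (fun i j => hc3 _)

include hF in
theorem outer_pow (x : SS F) (hx : x.right ≠ 1) : x ^ 12 = 1 ∨ x ^ 15 = 1 := by
  have h3 := cube_eq F hF x
  have ht := norm_trace F hF x.left x.right
  have ht2 := c3_fix F hF x.right hx _ ht
  have h2 := two_zero F
  rcases sz_elem F hF (x.left * psi F (x.right : F ≃+* F) x.left
      * psi F ((x.right : F ≃+* F) * (x.right : F ≃+* F)) x.left) with ⟨_, h⟩ | ⟨_, h⟩ | ⟨h0, _⟩ | ⟨h0, _⟩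
  · left
    rw [show (12 : ℕ) = 3 * 4 from rfl, pow_mul, h3, ← map_pow, h, map_one]
  · right
    rw [show (15 : ℕ) = 3 * 5 from rfl, pow_mul, h3, ← map_pow, h, map_one]
  · exfalso
    generalize (((x.left * psi F (x.right : F ≃+* F) x.left
      * psi F ((x.right : F ≃+* F) * (x.right : F ≃+* F)) x.left : Cfsg.Lie.Sz F 4) :
        GL (Fin 4) F) : M4 F).trace = t at ht2 h0
    have h1 : (1 : F) = 0 := by linear_combination h0 - (t + 1) * ht2 - t * h2
    exact one_ne_zero h1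
  · exfalso
    generalize (((x.left * psi F (x.right : F ≃+* F) x.left
      * psi F ((x.right : F ≃+* F) * (x.right : F ≃+* F)) x.left : Cfsg.Lie.Sz F 4) :
        GL (Fin 4) F) : M4 F).trace = t at ht2 h0
    have h1 : (1 : F) = 0 := by linear_combination h0 - (t + 2) * ht2 - t * h2
    exact one_ne_zero h1

theorem eq_inl (x : SS F) (hx : x.right = 1) : x = SemidirectProduct.inl x.left := by
  ext1
  · rfl
  · exact hx

include hF in
theorem inner_pow (x : SS F) (hx : x.right = 1) :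
    x ^ 4 = 1 ∨ x ^ 5 = 1 ∨ x ^ 7 = 1 ∨ x ^ 13 = 1 := by
  have hx' := eq_inl F x hx
  rcases sz_elem F hF x.left with ⟨_, h⟩ | ⟨_, h⟩ | ⟨_, h⟩ | ⟨_, h⟩
  · left
    rw [hx', ← map_pow, h, map_one]
  · right; left
    rw [hx', ← map_pow, h, map_one]
  · right; right; left
    rw [hx', ← map_pow, h, map_one]
  · right; right; right
    rw [hx', ← map_pow, h, map_one]

include hF in
/-- Element orders in `Sz(8):3`. -/
theorem ss_pow (x : SS F) :
    x ^ 4 = 1 ∨ x ^ 5 = 1 ∨ x ^ 7 = 1 ∨ x ^ 13 = 1 ∨ x ^ 12 = 1 ∨ x ^ 15 = 1 := by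
  by_cases hx : x.right = 1
  · rcases inner_pow F hF x hx with h | h | h | h
    · exact Or.inl h
    · exact Or.inr (Or.inl h)
    · exact Or.inr (Or.inr (Or.inl h))
    · exact Or.inr (Or.inr (Or.inr (Or.inl h)))
  · rcases outer_pow F hF x hx with h | h
    · exact Or.inr (Or.inr (Or.inr (Or.inr (Or.inl h))))
    · exact Or.inr (Or.inr (Or.inr (Or.inr (Or.inr h))))

include hF in
/-- Elements of order 13 act without nonzero fixed points. -/
theorem fpf13 (x : SS F) (hx : orderOf x = 13) (Y : M4 F) (hY : act F x Y = Y) : Y = 0 := by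
  have hr : x.right = 1 := by
    by_contra hne
    rcases outer_pow F hF x hne with h | h
    · have h1 := orderOf_dvd_of_pow_eq_one h
      rw [hx] at h1
      norm_num at h1
    · have h1 := orderOf_dvd_of_pow_eq_one h
      rw [hx] at h1
      norm_num at h1
  have hx' := eq_inl F x hr
  have hn : orderOf x.left = 13 := by
    rw [← hx]
    conv_rhs => rw [hx']
    exact (orderOf_injective (SemidirectProduct.inl : Cfsg.Lie.Sz F 4 →* SS F)
      SemidirectProduct.inl_injective x.left).symm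
  have hA := sz_elem_aeval F x.left
  have hB := sz_elem_aeval F (psi F (frobE F) x.left)
  have htr : (((psi F (frobE F) x.left : Cfsg.Lie.Sz F 4) : GL (Fin 4) F) : M4 F).trace
      = (((x.left : Cfsg.Lie.Sz F 4) : GL (Fin 4) F) : M4 F).trace ^ 2 := by
    rw [psi_coe]
    simp [Matrix.trace, Fin.sum_univ_four, frobE_apply]
    have h2 := two_zero F
    linear_combination (((x.left : GL (Fin 4) F) : M4 F) 0 0 * ((x.left : GL (Fin 4) F) : M4 F) 1 1
      + ((x.left : GL (Fin 4) F) : M4 F) 0 0 * ((x.left : GL (Fin 4) F) : M4 F) 2 2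
      + ((x.left : GL (Fin 4) F) : M4 F) 0 0 * ((x.left : GL (Fin 4) F) : M4 F) 3 3
      + ((x.left : GL (Fin 4) F) : M4 F) 1 1 * ((x.left : GL (Fin 4) F) : M4 F) 2 2
      + ((x.left : GL (Fin 4) F) : M4 F) 1 1 * ((x.left : GL (Fin 4) F) : M4 F) 3 3
      + ((x.left : GL (Fin 4) F) : M4 F) 2 2 * ((x.left : GL (Fin 4) F) : M4 F) 3 3) * (-h2)
  rw [htr] at hB
  have ht : (((x.left : Cfsg.Lie.Sz F 4) : GL (Fin 4) F) : M4 F).trace ^ 3
      + (((x.left : Cfsg.Lie.Sz F 4) : GL (Fin 4) F) : M4 F).trace ^ 2 + 1 = 0 := by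
    rcases sz_elem F hF x.left with ⟨_, h⟩ | ⟨_, h⟩ | ⟨_, h⟩ | ⟨h0, _⟩
    · exfalso
      have h1 := orderOf_dvd_of_pow_eq_one h
      rw [hn] at h1
      norm_num at h1
    · exfalso
      have h1 := orderOf_dvd_of_pow_eq_one h
      rw [hn] at h1
      norm_num at h1
    · exfalso
      have h1 := orderOf_dvd_of_pow_eq_one h
      rw [hn] at h1
      norm_num at h1
    · exact h0
  have h24 : ((((x.left : Cfsg.Lie.Sz F 4) : GL (Fin 4) F) : M4 F).trace ^ 2) ^ 4
      = (((x.left : Cfsg.Lie.Sz F 4) : GL (Fin 4) F) : M4 F).trace ^ 8 := by ring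
  rw [h24] at hB
  refine sz_fpf (two_zero F) _ _ ht hA _ hB Y ?_
  have hY' : ((x.left : GL (Fin 4) F) : M4 F) * Y
      * (((gm F (frobE F).toRingHom (x.left : GL (Fin 4) F))⁻¹ : GL (Fin 4) F) : M4 F) = Y := by
    have h1 : Y.map ((x.right : C3 F) : F ≃+* F) = Y := by
      rw [hr]
      ext i j
      rfl
    have h2 := hY
    unfold act at h2
    rw [h1] at h2
    exact h2
  calc ((x.left : GL (Fin 4) F) : M4 F) * Y
      = ((x.left : GL (Fin 4) F) : M4 F) * Y
        * ((((gm F (frobE F).toRingHom (x.left : GL (Fin 4) F))⁻¹ : GL (Fin 4) F) : M4 F)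
          * ((gm F (frobE F).toRingHom (x.left : GL (Fin 4) F) : GL (Fin 4) F) : M4 F)) := by
        rw [← Units.val_mul, inv_mul_cancel, Units.val_one, Matrix.mul_one]
    _ = Y * ((gm F (frobE F).toRingHom (x.left : GL (Fin 4) F) : GL (Fin 4) F) : M4 F) := by
        rw [← Matrix.mul_assoc, hY']

end orders

noncomputable section witnesses

variable (F : Type*) [Field F] [CharP F 2] [Fintype F] (hF : Fintype.card F = 8)

/-- The involution `J4` as an element of the Suzuki group. -/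
def jE : Cfsg.Lie.Sz F 4 := ⟨J4GL F, J4GL_mem (two_zero F) 4 (by norm_num)⟩

/-- A unipotent element with entries in the prime field. -/
def U01 : M4 F := !![1, 0, 0, 0; 0, 1, 0, 0; 1, 0, 1, 0; 1, 1, 0, 1]

omit [Fintype F] in
theorem U01_mul : U01 F * U01 F = 1 := by
  have h2 := two_zero F
  ext i j
  fin_cases i <;> fin_cases j <;> simp [U01, Matrix.mul_apply, Fin.sum_univ_four] <;>
    linear_combination h2

/-- `U01` as an element of `GL`. -/
def uGL : GL (Fin 4) F := ⟨U01 F, U01 F, U01_mul F, U01_mul F⟩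

omit [Fintype F] in
theorem uGL_mem : uGL F ∈ Cfsg.Lie.Sz F 4 := by
  have h2 := two_zero F
  rw [mem_Sz_iff]
  refine ⟨mem_Sp4_of_rel F _ ?_, ?_⟩
  · show (U01 F)ᵀ * J4 F * U01 F = J4 F
    ext i j
    rw [AtJA_apply]
    fin_cases i <;> fin_cases j <;> simp [U01, J4] <;> linear_combination h2
  · show Cfsg.Lie.star4 (U01 F) = (U01 F).map (fun x => x ^ 4)
    ext p r
    rw [star4_apply]
    fin_cases p <;> fin_cases r <;> simp [Cfsg.Lie.pairOf, U01] <;>
      linear_combination (-1 : F) * h2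

/-- `U01` as an element of the Suzuki group. -/
def uE : Cfsg.Lie.Sz F 4 := ⟨uGL F, uGL_mem F⟩

/-- An element of order 5 with entries in the prime field. -/
def fE : Cfsg.Lie.Sz F 4 := jE F * uE F

/-- The matrix of `fE`. -/
def FM : M4 F := !![1, 1, 0, 1; 1, 0, 1, 0; 0, 1, 0, 0; 1, 0, 0, 0]

omit [Fintype F] in
theorem fE_coe : ((fE F : GL (Fin 4) F) : M4 F) = FM F := by
  show J4 F * U01 F = FM F
  ext i j
  fin_cases i <;> fin_cases j <;> simp [J4, U01, FM, Matrix.mul_apply, Fin.sum_univ_four]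

omit [CharP F 2] [Fintype F] in
theorem FM_map (τ : F →+* F) : (FM F).map τ = FM F := by
  ext i j
  fin_cases i <;> fin_cases j <;> simp [FM]

omit [Fintype F] in
theorem psi_jE (τ : F ≃+* F) : psi F τ (jE F) = jE F := by
  apply Subtype.ext
  apply Units.ext
  rw [psi_coe]
  exact J4_map F (τ : F →+* F)

omit [Fintype F] in
theorem psi_fE (τ : F ≃+* F) : psi F τ (fE F) = fE F := by
  apply Subtype.ext
  apply Units.ext
  rw [psi_coe, fE_coe]
  exact FM_map F (τ : F →+* F)

omit [Fintype F] in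
theorem orderOf_jE : orderOf (jE F) = 2 := by
  have hu2 : jE F ^ 2 = 1 := by
    apply Subtype.ext
    apply Units.ext
    show (J4 F) ^ 2 = 1
    rw [pow_two, J4_mul_J4]
  have hu1 : jE F ≠ 1 := by
    intro h
    have h3 := congrArg (fun m : Cfsg.Lie.Sz F 4 => ((m : GL (Fin 4) F) : M4 F) 0 0) h
    simp [jE, J4GL, J4] at h3
  exact orderOf_eq_prime hu2 hu1

include hF in
theorem orderOf_fE : orderOf (fE F) = 5 := by
  haveI : Fact (Nat.Prime 5) := ⟨by norm_num⟩
  have h2 := two_zero F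
  have htr : ((fE F : GL (Fin 4) F) : M4 F).trace = 1 := by
    rw [fE_coe]
    simp [FM, Matrix.trace, Fin.sum_univ_four]
  have h5 : fE F ^ 5 = 1 := by
    rcases sz_elem F hF (fE F) with ⟨h, _⟩ | ⟨_, h⟩ | ⟨h, _⟩ | ⟨h, _⟩
    · rw [htr] at h
      exact absurd h one_ne_zero
    · exact h
    · rw [htr] at h
      exfalso
      have h1 : (1 : F) = 0 := by linear_combination h - h2
      exact one_ne_zero h1
    · rw [htr] at h
      exfalso
      have h1 : (1 : F) = 0 := by linear_combination h - h2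
      exact one_ne_zero h1
  refine orderOf_eq_prime h5 ?_
  intro h
  have h3 := congrArg (fun g : Cfsg.Lie.Sz F 4 => ((g : GL (Fin 4) F) : M4 F) 0 1) h
  simp only [fE_coe] at h3
  simp [FM] at h3

omit [Fintype F] in
/-- Diagonal matrices in the Suzuki group. -/
theorem diag_mem (d e : Fin 4 → F) (h1 : Matrix.diagonal d * Matrix.diagonal e = 1)
    (h1' : Matrix.diagonal e * Matrix.diagonal d = 1)
    (h03 : d 0 * d 3 = 1) (h12 : d 1 * d 2 = 1) (s0 : d 0 * d 1 = d 0 ^ 4)
    (s1 : d 0 * d 2 = d 1 ^ 4) (s2 : d 1 * d 3 = d 2 ^ 4) (s3 : d 2 * d 3 = d 3 ^ 4) :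
    (⟨Matrix.diagonal d, Matrix.diagonal e, h1, h1'⟩ : GL (Fin 4) F) ∈ Cfsg.Lie.Sz F 4 := by
  rw [mem_Sz_iff]
  refine ⟨mem_Sp4_of_rel F _ ?_, ?_⟩
  · show (Matrix.diagonal d)ᵀ * J4 F * Matrix.diagonal d = J4 F
    ext i j
    rw [AtJA_apply]
    fin_cases i <;> fin_cases j <;> simp [J4, Matrix.diagonal] <;>
      first | exact h03 | exact h12 | (rw [mul_comm]; exact h03) | (rw [mul_comm]; exact h12)
  · show Cfsg.Lie.star4 (Matrix.diagonal d) = (Matrix.diagonal d).map (fun x => x ^ 4)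
    ext p r
    rw [star4_apply]
    fin_cases p <;> fin_cases r <;> simp [Cfsg.Lie.pairOf, Matrix.diagonal] <;>
      first | exact s0 | exact s1 | exact s2 | exact s3

/-- The torus element `diag(κ, κ³, κ⁴, κ⁶)`. -/
def dE (κ : F) (h7 : κ ^ 7 = 1) : Cfsg.Lie.Sz F 4 :=
  ⟨⟨Matrix.diagonal ![κ, κ ^ 3, κ ^ 4, κ ^ 6], Matrix.diagonal ![κ ^ 6, κ ^ 4, κ ^ 3, κ], by
      rw [Matrix.diagonal_mul_diagonal, ← Matrix.diagonal_one]
      congr 1
      funext i
      fin_cases i <;> simp <;> linear_combination h7, by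
      rw [Matrix.diagonal_mul_diagonal, ← Matrix.diagonal_one]
      congr 1
      funext i
      fin_cases i <;> simp <;> linear_combination h7⟩,
    diag_mem F _ _ _ _ (by show κ * κ ^ 6 = 1; linear_combination h7)
      (by show κ ^ 3 * κ ^ 4 = 1; linear_combination h7)
      (by show κ * κ ^ 3 = κ ^ 4; ring)
      (by show κ * κ ^ 4 = (κ ^ 3) ^ 4; linear_combination (-κ ^ 5) * h7)
      (by show κ ^ 3 * κ ^ 6 = (κ ^ 4) ^ 4; linear_combination (-κ ^ 9) * h7)
      (by show κ ^ 4 * κ ^ 6 = (κ ^ 6) ^ 4; linear_combination (-κ ^ 10 * (κ ^ 7 + 1)) * h7)⟩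

theorem dE_coe (κ : F) (h7 : κ ^ 7 = 1) :
    ((dE F κ h7 : GL (Fin 4) F) : M4 F) = Matrix.diagonal ![κ, κ ^ 3, κ ^ 4, κ ^ 6] := rfl

theorem dE_inv_coe (κ : F) (h7 : κ ^ 7 = 1) :
    ((((dE F κ h7 : GL (Fin 4) F))⁻¹ : GL (Fin 4) F) : M4 F)
      = Matrix.diagonal ![κ ^ 6, κ ^ 4, κ ^ 3, κ] := rfl

theorem orderOf_dE (κ : F) (h7 : κ ^ 7 = 1) (h1 : κ ≠ 1) : orderOf (dE F κ h7) = 7 := by
  haveI : Fact (Nat.Prime 7) := ⟨by norm_num⟩
  refine orderOf_eq_prime ?_ ?_
  · apply Subtype.ext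
    apply Units.ext
    show (Matrix.diagonal ![κ, κ ^ 3, κ ^ 4, κ ^ 6]) ^ 7 = 1
    rw [Matrix.diagonal_pow, ← Matrix.diagonal_one]
    congr 1
    funext i
    fin_cases i
    · show κ ^ 7 = 1
      exact h7
    · show (κ ^ 3) ^ 7 = 1
      linear_combination (κ ^ 14 + κ ^ 7 + 1) * h7
    · show (κ ^ 4) ^ 7 = 1
      linear_combination (κ ^ 21 + κ ^ 14 + κ ^ 7 + 1) * h7
    · show (κ ^ 6) ^ 7 = 1
      linear_combination (κ ^ 35 + κ ^ 28 + κ ^ 21 + κ ^ 14 + κ ^ 7 + 1) * h7
  · intro h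
    have h3 := congrArg (fun g : Cfsg.Lie.Sz F 4 => ((g : GL (Fin 4) F) : M4 F) 0 0) h
    simp only [dE_coe] at h3
    simp at h3
    exact h1 h3

include hF in
theorem exists_kappa : ∃ κ : F, κ ^ 3 + κ ^ 2 + 1 = 0 := by
  classical
  have h2 := two_zero F
  obtain ⟨x, hx0, hx1⟩ : ∃ x : F, x ≠ 0 ∧ x ≠ 1 := by
    by_contra hcon
    push Not at hcon
    have hsub : (Finset.univ : Finset F) ⊆ {0, 1} := by
      intro x _
      by_cases h : x = 0
      · simp [h]
      · simp [hcon x h]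
    have hle : Fintype.card F ≤ 2 :=
      calc Fintype.card F = (Finset.univ : Finset F).card := Finset.card_univ.symm
        _ ≤ ({0, 1} : Finset F).card := Finset.card_le_card hsub
        _ ≤ 2 := Finset.card_le_two
    omega
  have h8 := pow8 F hF x
  have hfac : x * (x + 1) * (x ^ 3 + x + 1) * (x ^ 3 + x ^ 2 + 1) = 0 := by
    linear_combination h8 + (x + x ^ 2 + x ^ 3 + 2 * x ^ 4 + 2 * x ^ 5 + x ^ 6 + x ^ 7) * h2
  rcases mul_eq_zero.1 hfac with h | h
  · rcases mul_eq_zero.1 h with h | h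
    · rcases mul_eq_zero.1 h with h | h
      · exact absurd h hx0
      · exact absurd (by linear_combination h - h2) hx1
    · exact ⟨x + 1, by linear_combination h + (2 * x ^ 2 + 2 * x + 1) * h2⟩
  · exact ⟨x, h⟩

include hF in
theorem kappa_props (κ : F) (hκ : κ ^ 3 + κ ^ 2 + 1 = 0) : κ ≠ 0 ∧ κ ≠ 1 ∧ κ ^ 7 = 1 := by
  have h2 := two_zero F
  have h0 : κ ≠ 0 := by
    intro h
    rw [h] at hκ
    simp at hκ
  refine ⟨h0, ?_, ?_⟩
  · intro h
    rw [h] at hκ
    have h1 : (1 : F) = 0 := by linear_combination hκ - h2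
    exact one_ne_zero h1
  · have h8 := pow8 F hF κ
    have h3 : κ * (κ ^ 7 - 1) = 0 := by linear_combination h8
    rcases mul_eq_zero.1 h3 with h | h
    · exact absurd h h0
    · linear_combination h

/-- The generator of the group of field automorphisms. -/
def sigma : C3 F := ⟨frobE F, Subgroup.mem_zpowers _⟩

include hF in
theorem orderOf_sigma : orderOf (sigma F) = 3 := by
  haveI : Fact (Nat.Prime 3) := ⟨by norm_num⟩
  refine orderOf_eq_prime (c3_pow3 F hF _) ?_
  intro h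
  obtain ⟨κ, hκ⟩ := exists_kappa F hF
  obtain ⟨h0, h1, _⟩ := kappa_props F hF κ hκ
  have h3 := congrArg (fun c : C3 F => (c : F ≃+* F) κ) h
  have h4 : κ ^ 2 = κ := h3
  have h5 : κ * (κ - 1) = 0 := by linear_combination h4
  rcases mul_eq_zero.1 h5 with h | h
  · exact h0 h
  · exact h1 (by linear_combination h)

theorem commute_inl_inr (n : Cfsg.Lie.Sz F 4) (c : C3 F) (h : psi F (c : F ≃+* F) n = n) :
    Commute (SemidirectProduct.inl n : SS F) (SemidirectProduct.inr c) := by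
  have h1 : (SemidirectProduct.inr c : SS F) * SemidirectProduct.inl n
      * (SemidirectProduct.inr c)⁻¹ = SemidirectProduct.inl n := by
    rw [← map_inv, ← SemidirectProduct.inl_aut]
    exact congrArg _ h
  exact (eq_mul_of_mul_inv_eq h1).symm

include hF in
theorem exists_order6 : ∃ x : SS F, orderOf x = 6 := by
  refine ⟨SemidirectProduct.inl (jE F) * SemidirectProduct.inr (sigma F), ?_⟩
  have hc := commute_inl_inr F (jE F) (sigma F) (psi_jE F _)
  have h1 : orderOf (SemidirectProduct.inl (jE F) : SS F) = 2 := by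
    rw [orderOf_injective (SemidirectProduct.inl : Cfsg.Lie.Sz F 4 →* SS F)
      SemidirectProduct.inl_injective, orderOf_jE]
  have h2 : orderOf (SemidirectProduct.inr (sigma F) : SS F) = 3 := by
    rw [orderOf_injective (SemidirectProduct.inr : C3 F →* SS F)
      SemidirectProduct.inr_injective, orderOf_sigma F hF]
  rw [hc.orderOf_mul_eq_mul_orderOf_of_coprime (by rw [h1, h2]; norm_num), h1, h2]

include hF in
theorem exists_order15 : ∃ x : SS F, orderOf x = 15 := by
  refine ⟨SemidirectProduct.inl (fE F) * SemidirectProduct.inr (sigma F), ?_⟩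
  have hc := commute_inl_inr F (fE F) (sigma F) (psi_fE F _)
  have h1 : orderOf (SemidirectProduct.inl (fE F) : SS F) = 5 := by
    rw [orderOf_injective (SemidirectProduct.inl : Cfsg.Lie.Sz F 4 →* SS F)
      SemidirectProduct.inl_injective, orderOf_fE F hF]
  have h2 : orderOf (SemidirectProduct.inr (sigma F) : SS F) = 3 := by
    rw [orderOf_injective (SemidirectProduct.inr : C3 F →* SS F)
      SemidirectProduct.inr_injective, orderOf_sigma F hF]
  rw [hc.orderOf_mul_eq_mul_orderOf_of_coprime (by rw [h1, h2]; norm_num), h1, h2]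

include hF in
theorem exists_order13 : ∃ x : SS F, orderOf x = 13 := by
  haveI : Fact (Nat.Prime 13) := ⟨by norm_num⟩
  have h2 := two_zero F
  obtain ⟨κ, hκ⟩ := exists_kappa F hF
  obtain ⟨h0, h1, h7⟩ := kappa_props F hF κ hκ
  refine ⟨SemidirectProduct.inl (dE F κ h7 * fE F), ?_⟩
  rw [orderOf_injective (SemidirectProduct.inl : Cfsg.Lie.Sz F 4 →* SS F)
    SemidirectProduct.inl_injective]
  have htr : ((dE F κ h7 * fE F : Cfsg.Lie.Sz F 4) : GL (Fin 4) F).1.trace = κ := by
    show (((dE F κ h7 : GL (Fin 4) F) : M4 F) * ((fE F : GL (Fin 4) F) : M4 F)).trace = κ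
    rw [fE_coe, dE_coe]
    simp [FM, Matrix.trace, Matrix.mul_apply, Fin.sum_univ_four, Matrix.diagonal]
  have h13 : (dE F κ h7 * fE F) ^ 13 = 1 := by
    rcases sz_elem F hF (dE F κ h7 * fE F) with ⟨h, _⟩ | ⟨h, _⟩ | ⟨h, _⟩ | ⟨_, h⟩
    · exact absurd (htr ▸ h) h0
    · exact absurd (htr ▸ h) h1
    · exfalso
      have h3 : κ ^ 3 + κ + 1 = 0 := htr ▸ h
      have h5 : κ * (κ - 1) = 0 := by linear_combination hκ - h3
      rcases mul_eq_zero.1 h5 with h | h
      · exact h0 h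
      · exact h1 (by linear_combination h)
    · exact h
  refine orderOf_eq_prime h13 ?_
  intro h
  have h3 : ((dE F κ h7 * fE F : Cfsg.Lie.Sz F 4) : GL (Fin 4) F).1.trace
      = ((1 : Cfsg.Lie.Sz F 4) : GL (Fin 4) F).1.trace := by rw [h]
  rw [htr] at h3
  have h4 : ((1 : Cfsg.Lie.Sz F 4) : GL (Fin 4) F).1.trace = 0 := by
    show (1 : M4 F).trace = 0
    simp [Matrix.trace, Fin.sum_univ_four]
    linear_combination 2 * h2
  rw [h4] at h3
  exact h0 h3

include hF in
theorem exists_order5_fix : ∃ (x : SS F) (Y : M4 F), Y ≠ 0 ∧ orderOf x = 5 ∧ act F x Y = Y := by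
  refine ⟨SemidirectProduct.inl (fE F), 1, one_ne_zero, ?_, ?_⟩
  · rw [orderOf_injective (SemidirectProduct.inl : Cfsg.Lie.Sz F 4 →* SS F)
      SemidirectProduct.inl_injective, orderOf_fE F hF]
  · have h1 : gm F (frobE F).toRingHom (fE F : GL (Fin 4) F) = (fE F : GL (Fin 4) F) := by
      apply Units.ext
      rw [gm_coe, fE_coe]
      exact FM_map F _
    have h2 : (1 : M4 F).map (((SemidirectProduct.inl (fE F) : SS F).right : C3 F) : F ≃+* F)
        = 1 := by
      ext i j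
      by_cases hij : i = j
      · subst hij
        simp
      · simp [hij]
    unfold act
    rw [h2]
    show ((fE F : GL (Fin 4) F) : M4 F) * 1
      * (((gm F (frobE F).toRingHom (fE F : GL (Fin 4) F))⁻¹ : GL (Fin 4) F) : M4 F) = 1
    rw [h1, Matrix.mul_one, ← Units.val_mul, mul_inv_cancel, Units.val_one]

/-- A matrix unit. -/
def E02 : M4 F := !![0, 0, 1, 0; 0, 0, 0, 0; 0, 0, 0, 0; 0, 0, 0, 0]

include hF in
theorem exists_order7_fix : ∃ (x : SS F) (Y : M4 F), Y ≠ 0 ∧ orderOf x = 7 ∧ act F x Y = Y := by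
  obtain ⟨κ, hκ⟩ := exists_kappa F hF
  obtain ⟨h0, h1, h7⟩ := kappa_props F hF κ hκ
  refine ⟨SemidirectProduct.inl (dE F κ h7), E02 F, ?_, ?_, ?_⟩
  · intro h
    have h3 := congrFun (congrFun h 0) 2
    simp [E02] at h3
  · rw [orderOf_injective (SemidirectProduct.inl : Cfsg.Lie.Sz F 4 →* SS F)
      SemidirectProduct.inl_injective, orderOf_dE F κ h7 h1]
  · have h2 : (E02 F).map (((SemidirectProduct.inl (dE F κ h7) : SS F).right : C3 F) : F ≃+* F)
        = E02 F := by
      ext i j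
      fin_cases i <;> fin_cases j <;> simp [E02]
    have h3 : (((gm F (frobE F).toRingHom (dE F κ h7 : GL (Fin 4) F))⁻¹ : GL (Fin 4) F) : M4 F)
        = (Matrix.diagonal ![κ ^ 6, κ ^ 4, κ ^ 3, κ]).map (frobE F) := by
      rw [← map_inv]
      rfl
    unfold act
    rw [h2]
    show ((dE F κ h7 : GL (Fin 4) F) : M4 F) * E02 F
      * (((gm F (frobE F).toRingHom (dE F κ h7 : GL (Fin 4) F))⁻¹ : GL (Fin 4) F) : M4 F) = E02 F
    rw [h3, dE_coe]
    ext i j
    fin_cases i <;> fin_cases j <;>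
      simp [E02, Matrix.mul_apply, Fin.sum_univ_four, Matrix.diagonal, frobE_apply]
    linear_combination h7

end witnesses

end Cfsg.Agent.Lib.Helper61.Sz8Grp
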