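import Mathlib
import Cfsg.Agent.Lib.Helper26.T64Stmt

/-!
# S3157 piece FPF: for a fixed-point-free automorphism of order 3, `y ρ(y) ρ²(y) = 1` and
`y` commutes with `ρ(y)`.
-/

set_option autoImplicit false

namespace Cfsg.Agent.Lib.Helper61.T64FPF

open Cfsg.Agent.Lib.Helper26.T64Stmt

universe u

theorem main : Cfsg.Agent.Lib.Helper26.T64Stmt.FPF.{u} := by
  intro T _ _ ρ hρ hF
  have hρ3 : ∀ y : T, ρ (ρ (ρ y)) = y := by
    intro y
    have h3 : ρ ^ 3 = 1 := by rw [← hρ]; exact pow_orderOf_eq_one ρ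
    have h4 := congrArg (fun f : MulAut T => f y) h3
    simpa [pow_succ, MulAut.mul_apply] using h4
  let L : T → T := fun n => n⁻¹ * ρ n
  have hinj : Function.Injective L := by
    intro n m h
    have h1 : n⁻¹ * ρ n = m⁻¹ * ρ m := h
    have h2 : ρ (m * n⁻¹) = m * n⁻¹ := by
      rw [map_mul, map_inv]
      have h3 : ρ n = n * (m⁻¹ * ρ m) := by rw [← h1]; group
      rw [h3]; group
    have h4 := hF _ h2
    exact (mul_inv_eq_one.mp h4).symm
  have hsurj : Function.Surjective L := Finite.injective_iff_surjective.mp hinj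
  have P1 : ∀ g : T, g * ρ g * ρ (ρ g) = 1 := by
    intro g
    obtain ⟨y, hy⟩ := hsurj g
    have hy' : y⁻¹ * ρ y = g := hy
    rw [← hy']
    simp only [map_mul, map_inv]
    rw [hρ3 y]
    group
  have P2 : ∀ g : T, ρ (ρ g) * ρ g * g = 1 := by
    intro g
    have h := P1 g⁻¹
    simp only [map_inv] at h
    have e : ρ (ρ g) * ρ g * g = (g⁻¹ * (ρ g)⁻¹ * (ρ (ρ g))⁻¹)⁻¹ := by group
    rw [e, h, inv_one]
  intro y
  refine ⟨P1 y, ?_⟩
  have h1 : y * ρ y = (ρ (ρ y))⁻¹ := eq_inv_of_mul_eq_one_left (P1 y)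
  have h2 : ρ y * y = (ρ (ρ y))⁻¹ := by
    have h := P2 y
    rw [mul_assoc] at h
    exact eq_inv_of_mul_eq_one_right h
  rw [h1, h2]

end Cfsg.Agent.Lib.Helper61.T64FPF
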