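import Mathlib
import Cfsg.Agent.Lib.Helper26.T64Stmt

/-!
# S3157 piece LANG: a `ρ`-invariant subgroup containing `t⁻¹ ρ(t)` contains `t`.
-/

set_option autoImplicit false

namespace Cfsg.Agent.Lib.Helper61.T64LANG

open Cfsg.Agent.Lib.Helper26.T64Stmt

universe u

theorem main : Cfsg.Agent.Lib.Helper26.T64Stmt.LANG.{u} := by
  intro T _ _ ρ hF N hN t ht
  let L : N → N := fun n => ⟨(n : T)⁻¹ * ρ n, N.mul_mem (N.inv_mem n.2) (hN n n.2)⟩
  have hinj : Function.Injective L := by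
    intro n m h
    have h1 : (n : T)⁻¹ * ρ n = (m : T)⁻¹ * ρ m := congrArg Subtype.val h
    have h2 : ρ ((m : T) * (n : T)⁻¹) = (m : T) * (n : T)⁻¹ := by
      rw [map_mul, map_inv]
      have h3 : ρ (n : T) = (n : T) * ((m : T)⁻¹ * ρ m) := by rw [← h1]; group
      rw [h3]; group
    have h4 := hF _ h2
    have h5 : (m : T) = n := mul_inv_eq_one.mp h4
    exact Subtype.ext h5.symm
  have hsurj : Function.Surjective L := Finite.injective_iff_surjective.mp hinj
  obtain ⟨w, hw⟩ := hsurj ⟨t⁻¹ * ρ t, ht⟩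
  have h1 : (w : T)⁻¹ * ρ w = t⁻¹ * ρ t := congrArg Subtype.val hw
  have h2 : ρ (t * (w : T)⁻¹) = t * (w : T)⁻¹ := by
    rw [map_mul, map_inv]
    have h3 : ρ t = t * ((w : T)⁻¹ * ρ w) := by rw [h1]; group
    rw [h3]; group
  have h4 := hF _ h2
  have h5 : t = w := mul_inv_eq_one.mp h4
  rw [h5]; exact w.2

end Cfsg.Agent.Lib.Helper61.T64LANG
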