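import Mathlib
import Cfsg.Agent.Lib.Helper26.T64Stmt

/-!
# S3157 piece MOD3: a `ρ`-invariant subgroup has order `≡ 1 (mod 3)`.
-/

set_option autoImplicit false

namespace Cfsg.Agent.Lib.Helper61.T64MOD3

open Cfsg.Agent.Lib.Helper26.T64Stmt

universe u

theorem main : Cfsg.Agent.Lib.Helper26.T64Stmt.MOD3.{u} := by
  intro T _ _ ρ hρ hF N hN
  classical
  have : Fintype N := Fintype.ofFinite N
  have hρ3 : ∀ y : T, ρ (ρ (ρ y)) = y := by
    intro y
    have h3 : ρ ^ 3 = 1 := by rw [← hρ]; exact pow_orderOf_eq_one ρ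
    have h4 := congrArg (fun f : MulAut T => f y) h3
    simpa [pow_succ, MulAut.mul_apply] using h4
  let f : Function.End N := fun n => ⟨ρ n, hN n n.2⟩
  have hf : ∀ n : N, ((f n : N) : T) = ρ n := fun n => rfl
  have hf3 : f ^ 3 ^ 1 = 1 := by
    have e : f ^ 3 ^ 1 = f * f * f := by rw [pow_one, pow_succ, pow_two]
    rw [e]
    funext n
    show f (f (f n)) = n
    apply Subtype.ext
    rw [hf, hf, hf, hρ3]
  have : Fact (Nat.Prime 3) := ⟨Nat.prime_three⟩
  have hmod := Equiv.Perm.card_fixedPoints_modEq (f := f) (p := 3) (n := 1) hf3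
  have hfix : Fintype.card (Function.fixedPoints f) = 1 := by
    rw [Fintype.card_eq_one_iff]
    refine ⟨⟨1, ?_⟩, ?_⟩
    · show f 1 = 1
      apply Subtype.ext
      rw [hf]
      simp
    · rintro ⟨n, hn⟩
      apply Subtype.ext
      apply Subtype.ext
      have h0 : f n = n := hn
      have h1 : ρ (n : T) = n := by rw [← hf, h0]
      exact hF _ h1
  rw [hfix] at hmod
  rw [Nat.card_eq_fintype_card]
  exact hmod

end Cfsg.Agent.Lib.Helper61.T64MOD3
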