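import Mathlib
import Cfsg.Agent.Lib.Helper39.TLStmt

/-!
# S4404 piece GEN: a generator `x` of `Q` is a reflection with `W = ⁅Q, M⁆`.
-/

set_option autoImplicit false

namespace Cfsg.Agent.Lib.Helper61.TLGEN

open Cfsg Cfsg.Agent.Lib.Helper39.TLStmt

universe u

theorem nu_mul {A : Type*} [CommGroup A] (τ : A ≃* A) (a b : A) :
    (a * b) * τ (a * b) * τ (τ (a * b)) = (a * τ a * τ (τ a)) * (b * τ b * τ (τ b)) := by
  rw [map_mul, map_mul]
  ac_rfl

theorem nu_fix {A : Type*} [CommGroup A] (τ : A ≃* A) (h3 : ∀ m, τ (τ (τ m)) = m) (m : A) :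
    τ (m * τ m * τ (τ m)) = m * τ m * τ (τ m) := by
  rw [map_mul, map_mul, h3]
  ac_rfl

theorem main : Gen.{u} := by
  intro S _ _ M _ hM Q hQ hcube hcard
  obtain ⟨hMc, hM2⟩ := hM
  have hcommM : ∀ a b : ↥M, a * b = b * a := fun a b => hMc.is_comm.comm a b
  have := hQ
  obtain ⟨g, hg⟩ := IsCyclic.exists_generator (α := Q)
  obtain ⟨x, hxQ, hQx⟩ : ∃ x ∈ Q, ∀ q ∈ Q, ∃ k : ℤ, x ^ k = q := by
    refine ⟨(g : S), g.2, ?_⟩
    intro q hq
    obtain ⟨k, hk⟩ := Subgroup.mem_zpowers_iff.mp (hg ⟨q, hq⟩)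
    exact ⟨k, by rw [← Subgroup.coe_zpow, hk]⟩
  refine ⟨x, hxQ, ?_⟩
  have hφ : ∀ (t : S) (m : ↥M), ((MulAut.conjNormal t m : ↥M) : S) = t * m * t⁻¹ :=
    fun t m => MulAut.conjNormal_apply t m
  have hτ3 : ∀ m : ↥M, (MulAut.conjNormal x : MulAut ↥M)
      (MulAut.conjNormal x (MulAut.conjNormal x m)) = m := by
    intro m
    apply Subtype.ext
    rw [hφ, hφ, hφ]
    have h := Subgroup.mem_centralizer_iff.mp (hcube x hxQ) m m.2
    rw [pow_succ, pow_two] at h
    have e : x * (x * (x * (m : S) * x⁻¹) * x⁻¹) * x⁻¹ = (x * x * x * m) * (x * x * x)⁻¹ := by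
      group
    rw [e, ← h]; group
  -- the norm map
  let ν : ↥M →* ↥M := MonoidHom.mk'
    (fun m => m * MulAut.conjNormal x m * MulAut.conjNormal x (MulAut.conjNormal x m)) (by
      intro a b
      letI : CommGroup ↥M := { (inferInstance : Group ↥M) with mul_comm := hcommM }
      exact nu_mul (MulAut.conjNormal x : MulAut ↥M) a b)
  have hνdef : ∀ m : ↥M,
      ν m = m * MulAut.conjNormal x m * MulAut.conjNormal x (MulAut.conjNormal x m) :=
    fun m => rfl
  have hνfix : ∀ m : ↥M, (MulAut.conjNormal x : MulAut ↥M) (ν m) = ν m := by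
    intro m
    letI : CommGroup ↥M := { (inferInstance : Group ↥M) with mul_comm := hcommM }
    exact nu_fix (MulAut.conjNormal x : MulAut ↥M) hτ3 m
  -- commutators are killed by ν
  have hkill : ∀ q ∈ Q, ∀ m : ↥M, ν (MulAut.conjNormal q m * m⁻¹) = 1 := by
    intro q hq m
    obtain ⟨k, hk⟩ := hQx q hq
    have hcomm : x * q = q * x := by rw [← hk]; exact ((Commute.refl x).zpow_right k).eq
    have hc1 : ∀ m' : ↥M, (MulAut.conjNormal x : MulAut ↥M) (MulAut.conjNormal q m') =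
        MulAut.conjNormal q (MulAut.conjNormal x m') := by
      intro m'
      apply Subtype.ext
      rw [hφ, hφ, hφ, hφ]
      have e1 : x * (q * (m' : S) * q⁻¹) * x⁻¹ = (x * q) * m' * (x * q)⁻¹ := by group
      have e2 : q * (x * (m' : S) * x⁻¹) * q⁻¹ = (q * x) * m' * (q * x)⁻¹ := by group
      rw [e1, e2, hcomm]
    have hc2 : ν (MulAut.conjNormal q m) = MulAut.conjNormal q (ν m) := by
      rw [hνdef, hνdef, hc1, hc1, map_mul, map_mul]
    have hc3 : (MulAut.conjNormal q : MulAut ↥M) (ν m) = ν m := by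
      have hxK : x ∈ (MulAction.stabilizer (MulAut ↥M) (ν m)).comap MulAut.conjNormal := by
        rw [Subgroup.mem_comap, MulAction.mem_stabilizer_iff, MulAut.smul_def]
        exact hνfix m
      have hqK : q ∈ (MulAction.stabilizer (MulAut ↥M) (ν m)).comap MulAut.conjNormal := by
        rw [← hk]; exact Subgroup.zpow_mem _ hxK k
      rw [Subgroup.mem_comap, MulAction.mem_stabilizer_iff, MulAut.smul_def] at hqK
      exact hqK
    rw [map_mul, map_inv, hc2, hc3, mul_inv_cancel]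
  -- `⁅Q, M⁆ ≤ ker ν`
  have hle : ⁅Q, M⁆ ≤ (ν.ker).map M.subtype := by
    rw [Subgroup.commutator_le]
    intro q hq m hm
    refine Subgroup.mem_map.mpr ⟨MulAut.conjNormal q ⟨m, hm⟩ * (⟨m, hm⟩ : ↥M)⁻¹, ?_, ?_⟩
    · exact MonoidHom.mem_ker.mpr (hkill q hq ⟨m, hm⟩)
    · rw [commutatorElement_def]
      show ((MulAut.conjNormal q ⟨m, hm⟩ * (⟨m, hm⟩ : ↥M)⁻¹ : ↥M) : S) = q * m * q⁻¹ * m⁻¹
      rw [Subgroup.coe_mul, hφ, Subgroup.coe_inv]
  refine ⟨hcube x hxQ, Subgroup.commutator_le_right Q M, hcard, ?_, ?_⟩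
  · intro m hm
    have h := Subgroup.commutator_mem_commutator hxQ hm
    rwa [commutatorElement_def] at h
  · intro w hw hfix
    obtain ⟨w', hw', rfl⟩ := Subgroup.mem_map.mp (hle hw)
    have hν1 : ν w' = 1 := MonoidHom.mem_ker.mp hw'
    have hτw : (MulAut.conjNormal x : MulAut ↥M) w' = w' := by
      apply Subtype.ext; rw [hφ]; exact hfix
    rw [hνdef, hτw, hτw] at hν1
    have h2 : w' * w' = 1 := by
      apply Subtype.ext
      rw [Subgroup.coe_mul, ← pow_two]; exact hM2 w' w'.2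
    rw [h2, one_mul] at hν1
    show M.subtype w' = 1
    rw [hν1, map_one]

end Cfsg.Agent.Lib.Helper61.TLGEN
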