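import Mathlib
import Cfsg.Agent.Lib.Helper39.TLStmt

/-!
# S4404 piece NORMA: an abelian subgroup normalized by the 3-group `T ∋ x` normalizes `W`.
-/

set_option autoImplicit false

namespace Cfsg.Agent.Lib.Helper61.TLNORMA

open Cfsg Cfsg.Agent.Lib.Helper39.TLStmt

universe u

theorem aux {S : Type u} [Group S] (M : Subgroup S) (x y y' : S) (Wy : Subgroup S)
    (hy : IsRefl M y Wy) (P1 : ∀ w ∈ Wy, x * w * x⁻¹ = w) (P2 : ∀ w ∈ Wy, y' * w * y'⁻¹ = w)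
    (key : y * x⁻¹ = y' * y⁻¹) : False := by
  have hc3 : ∀ v ∈ M, y * y * y * v = v * (y * y * y) := by
    intro v hv
    have h := (Subgroup.mem_centralizer_iff.mp hy.cube v hv).symm
    rw [pow_succ, pow_two] at h
    exact h
  have hinv : ∀ v ∈ Wy, y * v * y⁻¹ ∈ Wy := by
    intro v hv
    have e : y * v * y⁻¹ = (y * v * y⁻¹ * v⁻¹) * v := by group
    rw [e]; exact Wy.mul_mem (hy.comm v (hy.le hv)) hv
  have hall : ∀ v ∈ Wy, v = 1 := by
    intro v hv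
    have hvM := hy.le hv
    apply hy.fix v hv
    have e3 : y * (y * (y * v * y⁻¹) * y⁻¹) * y⁻¹ = v := by
      have e : y * (y * (y * v * y⁻¹) * y⁻¹) * y⁻¹ = (y * y * y * v) * (y * y * y)⁻¹ := by
        group
      rw [e, hc3 v hvM]; group
    have e4 : y⁻¹ * v * y = y * (y * v * y⁻¹) * y⁻¹ := by
      calc y⁻¹ * v * y = y⁻¹ * (y * (y * (y * v * y⁻¹) * y⁻¹) * y⁻¹) * y := by rw [e3]
        _ = y * (y * v * y⁻¹) * y⁻¹ := by group
    have hv2 : y⁻¹ * v * y ∈ Wy := by rw [e4]; exact hinv _ (hinv v hv)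
    have hxv : x⁻¹ * v * x = v := by
      calc x⁻¹ * v * x = x⁻¹ * (x * v * x⁻¹) * x := by rw [P1 v hv]
        _ = v := by group
    have h3' : (y * x⁻¹) * v * (y * x⁻¹)⁻¹ = y * v * y⁻¹ := by
      calc (y * x⁻¹) * v * (y * x⁻¹)⁻¹ = y * (x⁻¹ * v * x) * y⁻¹ := by group
        _ = y * v * y⁻¹ := by rw [hxv]
    have h4 : (y' * y⁻¹) * v * (y' * y⁻¹)⁻¹ = y⁻¹ * v * y := by
      calc (y' * y⁻¹) * v * (y' * y⁻¹)⁻¹ = y' * (y⁻¹ * v * y) * y'⁻¹ := by group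
        _ = y⁻¹ * v * y := P2 _ hv2
    have h5 : y * v * y⁻¹ = y⁻¹ * v * y := by
      rw [← h3', key]; exact h4
    have h6 : y * (y * v * y⁻¹) * y⁻¹ = y * v * y⁻¹ := by
      rw [← e4]; exact h5.symm
    rw [h6, h6] at e3
    exact e3
  have hbot : Wy = ⊥ := (Subgroup.eq_bot_iff_forall Wy).mpr hall
  have hcard := hy.card
  rw [hbot, Subgroup.card_bot] at hcard
  norm_num at hcard

theorem main (h3 : PW3.{u}) (hC : Conj.{u}) : NormA.{u} := by
  intro S _ _ M _ hM T A hT hAT hnorm hcomm x W hxT hx a ha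
  by_contra hne
  have haT : a ∈ T := hAT ha
  have hy := hC S M x W a hx
  have hy' := hC S M (a * x * a⁻¹) (W.map (MulAut.conj a).toMonoidHom) a hy
  have hyT : a * x * a⁻¹ ∈ T := T.mul_mem (T.mul_mem haT hxT) (T.inv_mem haT)
  have hy'T : a * (a * x * a⁻¹) * a⁻¹ ∈ T := T.mul_mem (T.mul_mem haT hyT) (T.inv_mem haT)
  have hinj : Function.Injective ((MulAut.conj a).toMonoidHom : S →* S) :=
    (MulAut.conj a).injective
  have hne' : (W.map (MulAut.conj a).toMonoidHom).map (MulAut.conj a).toMonoidHom ≠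
      W.map (MulAut.conj a).toMonoidHom := by
    intro h
    exact hne (Subgroup.map_injective hinj h)
  have hc : a * x * a⁻¹ * x⁻¹ ∈ A := by
    have e : a * x * a⁻¹ * x⁻¹ = a * (x * a⁻¹ * x⁻¹) := by group
    rw [e]; exact A.mul_mem ha (hnorm x hxT a⁻¹ (A.inv_mem ha))
  have hca := hcomm a ha _ hc
  have key : (a * x * a⁻¹) * x⁻¹ = (a * (a * x * a⁻¹) * a⁻¹) * (a * x * a⁻¹)⁻¹ := by
    have e : (a * (a * x * a⁻¹) * a⁻¹) * (a * x * a⁻¹)⁻¹ = a * (a * x * a⁻¹ * x⁻¹) * a⁻¹ := by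
      group
    rw [e, hca]; group
  have P1 := h3 S M hM T hT x (a * x * a⁻¹) W _ hxT hyT hx hy (Ne.symm hne)
  have P2 := h3 S M hM T hT (a * (a * x * a⁻¹) * a⁻¹) (a * x * a⁻¹) _ _ hy'T hyT hy' hy hne'
  exact aux M x (a * x * a⁻¹) (a * (a * x * a⁻¹) * a⁻¹) _ hy P1 P2 key

end Cfsg.Agent.Lib.Helper61.TLNORMA
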