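import Mathlib
import Cfsg.Agent.Lib.Helper44.TPStmt

/-!
# S5973 / BADC (second seat, helper61)

`main : MultElt → FixND → TsHalf → RImg → BadC`.
-/

set_option autoImplicit false

universe u

namespace Cfsg.Agent.Lib.Helper61.TPBADC

open Cfsg.Agent.Lib.Helper44.TPStmt

theorem main (hME : MultElt.{u}) (hFN : FixND.{u}) (hTH : TsHalf.{u}) (hRI : RImg.{u}) :
    BadC.{u} := by
  intro F _ _ p _ _ d m hd r _ hr2 hrp hev u hu1 hut hlt hbig
  obtain ⟨x, hxΩ, hxr, hfin, hR⟩ := hME F p d hd r hr2 hrp hev u hu1 hut hlt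
  refine ⟨x, hxΩ, hxr, ?_⟩
  rintro ⟨W, hWm, hWts, hWst⟩
  obtain ⟨R, hRW, hRst, hRfx, hRfin, -⟩ := hRI F p d r hrp x hxr W hWst
  have hRts : TSub d F R := fun w hw => hWts w (hRW hw)
  have hRbot : R = ⊥ := hR R hRst hRfx hRts
  have h1 : Module.finrank F ↥(W ⊓ Fx (x : Matrix (J d) (J d) F)) = m := by
    rw [hRbot] at hRfin
    rw [finrank_bot, zero_add] at hRfin
    rw [hRfin, hWm]
  have hxiso : x ∈ Cfsg.isometryGroup F (Cfsg.quadFormPlus d F) := by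
    obtain ⟨y, -, rfl⟩ := hxΩ
    exact y.2
  have hnd := hFN F p d r hrp x hxiso hxr
  have h2 := hTH F d (Fx (x : Matrix (J d) (J d) F)) (W ⊓ Fx (x : Matrix (J d) (J d) F)) hnd
    inf_le_right (fun w hw => hWts w hw.1)
  rw [h1, hfin] at h2
  omega

end Cfsg.Agent.Lib.Helper61.TPBADC
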