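import Mathlib
import Cfsg.Agent.Lib.Helper61.TitsG

set_option autoImplicit false

/-! Generic transfer: a simple non-commutative subgroup `K` of index two in `G` is the commutator
subgroup of `G`. -/

namespace Cfsg.Agent.Lib.Helper61.TitsFin

open Cfsg.Agent.Lib.Helper61.TitsG

/-- the commutator subgroup of `G` is `K`. -/
theorem comm_gen {Γ : Type} [Group Γ] (G K : Subgroup Γ) (hKG : K ≤ G)
    (hidx : (K.subgroupOf G).index = 2) (hs : IsSimpleGroup ↥K) (hnc : ¬ IsMulCommutative ↥K) :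
    commutator ↥G = K.subgroupOf G := by
  apply le_antisymm (commutator_le_of_index_two _ hidx)
  have hp : commutator ↥K = ⊤ := perfect_of_simple hnc
  intro k hk
  rw [Subgroup.mem_subgroupOf] at hk
  have h1 : (⟨k.1, hk⟩ : ↥K) ∈ commutator ↥K := by rw [hp]; exact Subgroup.mem_top _
  have h2 : Subgroup.map (Subgroup.inclusion hKG) (commutator ↥K) ≤ commutator ↥G := by
    rw [commutator_def, commutator_def, Subgroup.map_commutator]
    exact Subgroup.commutator_mono le_top le_top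
  exact h2 ⟨_, h1, rfl⟩

/-- membership in the commutator subgroup of `G`. -/
theorem mem_comm_gen {Γ : Type} [Group Γ] (G K : Subgroup Γ) (hKG : K ≤ G)
    (hidx : (K.subgroupOf G).index = 2) (hs : IsSimpleGroup ↥K) (hnc : ¬ IsMulCommutative ↥K)
    (g : ↥G) (hg : (g : Γ) ∈ K) : g ∈ commutator ↥G := by
  rw [comm_gen G K hKG hidx hs hnc, Subgroup.mem_subgroupOf]
  exact hg

theorem final {Γ : Type} [Group Γ] (G K : Subgroup Γ) (hKG : K ≤ G)
    (hidx : (K.subgroupOf G).index = 2) (hs : IsSimpleGroup ↥K) (hnc : ¬ IsMulCommutative ↥K)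
    (n : ℕ) (hcard : Nat.card ↥K = n) :
    (commutator ↥G).index = 2 ∧ IsSimpleGroup ↥(commutator ↥G) ∧
      ¬ IsMulCommutative ↥(commutator ↥G) ∧ Nat.card ↥(commutator ↥G) = n := by
  have hc := comm_gen G K hKG hidx hs hnc
  obtain ⟨e⟩ : Nonempty (↥(commutator ↥G) ≃* ↥K) :=
    ⟨(MulEquiv.subgroupCongr hc).trans (Subgroup.subgroupOfEquivOfLe hKG)⟩
  refine ⟨?_, ?_, ?_, ?_⟩
  · rw [hc]
    exact hidx
  · exact e.isSimpleGroup_congr.2 hs
  · intro h
    apply hnc
    refine ⟨⟨fun a b => ?_⟩⟩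
    have := h.is_comm.comm (e.symm a) (e.symm b)
    rw [← map_mul, ← map_mul] at this
    exact e.symm.injective this
  · rw [Nat.card_congr e.toEquiv, hcard]

end Cfsg.Agent.Lib.Helper61.TitsFin
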