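import Mathlib
import Cfsg.Prelude.Def_Classical
import Cfsg.Agent.Lib.Helper61.F16
import Cfsg.Agent.Lib.Helper61.SU34
import Cfsg.Agent.Lib.Helper61.U34Mod
import Cfsg.Agent.Lib.Helper61.U34Fpf

set_option autoImplicit false

/-!
# The module `U34Mod.V` is non-zero and elements of order 13 act on it without fixed points
-/

namespace Cfsg.Agent.Lib.Helper61.U34Main

open Matrix
open Cfsg.Agent.Lib.Helper61.F16
open Cfsg.Agent.Lib.Helper61.U34Mod
open Cfsg.Agent.Lib.Helper61.U34Fpf

theorem exists_g0 : ∃ g0 : G, mat g0 = M0 := by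
  obtain ⟨g, hg⟩ := SU34.exists_su GF16.card (RingHom.id GF16) SU34.W13 SU34.W13_props.1
    SU34.W13_props.2.1
  refine ⟨g, ?_⟩
  show ((g : Matrix.SpecialLinearGroup (Fin 3) GF16) : Matrix (Fin 3) (Fin 3) GF16) = M0
  rw [hg, RingHom.mapMatrix_id]
  rfl

theorem mat_injective : Function.Injective mat := by
  intro g h hgh
  apply Subtype.ext
  apply Subtype.ext
  exact hgh

theorem mat_pow (g : G) (n : ℕ) : mat (g ^ n) = mat g ^ n := by
  induction n with
  | zero => rw [pow_zero, pow_zero, mat_one]
  | succ n ih => rw [pow_succ, pow_succ, mat_mul, ih]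

theorem orderOf_g0 (g0 : G) (hg0 : mat g0 = M0) : orderOf g0 = 13 := by
  have : Fact (Nat.Prime 13) := ⟨by norm_num⟩
  apply orderOf_eq_prime
  · apply mat_injective
    rw [mat_pow, hg0, mat_one]
    exact SU34.W13_props.2.2.1
  · intro h
    have h1 : mat g0 = 1 := by rw [h, mat_one]
    rw [hg0] at h1
    have h2 : M0 ≠ 1 := by decide +kernel
    exact h2 h1

theorem mat_inv_g0 (g0 : G) (hg0 : mat g0 = M0) : mat g0⁻¹ = B := by
  have h1 := mat_inv_mul g0
  rw [hg0] at h1
  calc mat g0⁻¹ = mat g0⁻¹ * (M0 * B) := by rw [B_props.1, mul_one]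
    _ = (mat g0⁻¹ * M0) * B := by rw [Matrix.mul_assoc]
    _ = B := by rw [h1, one_mul]

/-- The chosen element of order 13 has no non-zero fixed point on the module. -/
theorem fpf_g0 (g0 : G) (hg0 : mat g0 = M0) (Φ : V) (h : g0 • Φ = Φ) : Φ = 0 := by
  have hinvB := mat_inv_g0 g0 hg0
  obtain ⟨φ, hφ⟩ := Φ
  obtain ⟨f, hfW, rfl⟩ := hφ
  have hB : ∀ v : Vec, Iso v → Iso (B *ᵥ v) := by
    intro v hv
    rw [← hinvB]
    exact (iso_mat _ _).2 hv
  have hinv : ∀ x y : Vec, Iso x → Iso y → f (B *ᵥ x) - f (B *ᵥ y) = f x - f y := by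
    intro x y hx hy
    have h1 := congrArg (fun Ψ : V => Ψ.1 x y) h
    simp only [smul_apply] at h1
    rw [hinvB] at h1
    change del f (B *ᵥ x) (B *ᵥ y) = del f x y at h1
    unfold del at h1
    rw [if_pos ⟨hB x hx, hB y hy⟩, if_pos ⟨hx, hy⟩] at h1
    exact h1
  have hconst := const_of_inv f hfW hinv hB
  apply Subtype.ext
  funext x y
  show del f x y = 0
  unfold del
  split_ifs with hxy
  · rw [hconst x y hxy.1 hxy.2, sub_self]
  · rfl

theorem card_not_dvd : ¬ 13 ^ 2 ∣ Nat.card G := by
  intro h
  let φ : G →* GL (Fin 3) GF16 :=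
    (Matrix.SpecialLinearGroup.toGL).comp (Subgroup.subtype (Cfsg.SU 3 GF16 4))
  have hinj : Function.Injective φ := by
    intro a b hab
    exact Subtype.ext (Matrix.SpecialLinearGroup.toGL_injective hab)
  have hdvd : Nat.card G ∣ Nat.card (GL (Fin 3) GF16) := Subgroup.card_dvd_of_injective φ hinj
  rw [Matrix.card_GL_field, GF16.card] at hdvd
  have h2 := Nat.dvd_trans h hdvd
  rw [Fin.prod_univ_three] at h2
  revert h2
  norm_num

/-- Elements of order 13 have no non-zero fixed point on the module. -/
theorem fpf (g : G) (hg : orderOf g = 13) (Φ : V) (h : g • Φ = Φ) : Φ = 0 := by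
  obtain ⟨g0, hg0⟩ := exists_g0
  have : Fact (Nat.Prime 13) := ⟨by norm_num⟩
  have ho0 : orderOf g0 = 13 := orderOf_g0 g0 hg0
  have hfac : (Nat.card G).factorization 13 ≤ 1 := by
    by_contra hcon
    push Not at hcon
    apply card_not_dvd
    exact (Nat.Prime.pow_dvd_iff_le_factorization (by norm_num) Nat.card_pos.ne').2 hcon
  have hz : ∀ x : G, orderOf x = 13 → ∀ P : Sylow 13 G, Subgroup.zpowers x ≤ P →
      Subgroup.zpowers x = (P : Subgroup G) := by
    intro x hx P hle
    apply Subgroup.eq_of_le_of_card_ge hle
    rw [Nat.card_zpowers, hx, Sylow.card_eq_multiplicity]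
    calc 13 ^ (Nat.card G).factorization 13 ≤ 13 ^ 1 := Nat.pow_le_pow_right (by norm_num) hfac
      _ = 13 := by norm_num
  have hp : ∀ x : G, orderOf x = 13 → IsPGroup 13 (Subgroup.zpowers x) := by
    intro x hx
    exact IsPGroup.of_card (n := 1) (by rw [Nat.card_zpowers, hx, pow_one])
  obtain ⟨P, hP⟩ := (hp g hg).exists_le_sylow
  obtain ⟨P0, hP0⟩ := (hp g0 ho0).exists_le_sylow
  have eP := hz g hg P hP
  have eP0 := hz g0 ho0 P0 hP0
  obtain ⟨s, hs⟩ := MulAction.exists_smul_eq G P0 P
  have hgP : g ∈ (P : Subgroup G) := by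
    rw [← eP]
    exact Subgroup.mem_zpowers g
  rw [← hs, Sylow.coe_subgroup_smul, Subgroup.mem_pointwise_smul_iff_inv_smul_mem] at hgP
  have hy0 : s⁻¹ * g * s ∈ Subgroup.zpowers g0 := by
    rw [eP0]
    have : (MulAut.conj s)⁻¹ • g = s⁻¹ * g * s := by
      rw [MulAut.smul_def, MulAut.conj_inv_apply]
    rw [← this]
    exact hgP
  set y := s⁻¹ * g * s with hy
  have hy1 : y ≠ 1 := by
    intro h1
    have : g = 1 := by
      have h2 : s * y * s⁻¹ = g := by rw [hy]; group
      rw [← h2, h1]
      group
    rw [this, orderOf_one] at hg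
    norm_num at hg
  have hle : Subgroup.zpowers y ≤ Subgroup.zpowers g0 := (Subgroup.zpowers_le).2 hy0
  have hoy : orderOf y = 13 := by
    have h1 : Nat.card (Subgroup.zpowers y) ∣ Nat.card (Subgroup.zpowers g0) :=
      Subgroup.card_dvd_of_le hle
    rw [Nat.card_zpowers, Nat.card_zpowers, ho0] at h1
    rcases (Nat.dvd_prime (by norm_num)).1 h1 with h2 | h2
    · exact absurd (orderOf_eq_one_iff.1 h2) hy1
    · exact h2
  have heq : Subgroup.zpowers y = Subgroup.zpowers g0 := by
    apply Subgroup.eq_of_le_of_card_ge hle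
    rw [Nat.card_zpowers, Nat.card_zpowers, ho0, hoy]
  have hfix : y • (s⁻¹ • Φ) = s⁻¹ • Φ := by
    rw [hy, ← mul_smul, mul_assoc, mul_inv_cancel, mul_one, mul_smul, h]
  have hstab : y ∈ MulAction.stabilizer G (s⁻¹ • Φ) := MulAction.mem_stabilizer_iff.2 hfix
  have hg0s : g0 ∈ MulAction.stabilizer G (s⁻¹ • Φ) := by
    have h1 : Subgroup.zpowers y ≤ MulAction.stabilizer G (s⁻¹ • Φ) := (Subgroup.zpowers_le).2 hstab
    apply h1
    rw [heq]
    exact Subgroup.mem_zpowers g0
  have h0 := fpf_g0 g0 hg0 (s⁻¹ • Φ) (MulAction.mem_stabilizer_iff.1 hg0s)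
  exact (smul_eq_zero_iff_eq s⁻¹).1 h0

/-- Table of the values of a non-constant element of `W`, three bits per vector. -/
def f0Tab : ℕ := 0x2004800000180800000000000000040000200e40000000000000030102002002000000000000030c00001030000000002008000100000006000088004000c000000004400008001800c0000000000000004020400000000180000004000000000000004010410000000208000007004000030000000000006008c00000000000000000000003000000420000100000000000040000000000030000000000030000440000002040800000180182004001000800000880000400000820006040030000000000000000000400001000000000000000040000100c00000020000000180800080230000000000000030010040000000031040000204000440000180000000000030000000000000400100480000104002000000000000000030002006005001000080000000000000000000000100180000000000000000200000002000000000000031000000990000100004002000084000002400184000000000c00200c00001000180240000000000000040020010000100c000008c0008020c10000000000000000030800100400000000000000000000080510008000000000080000180100000000000000006030000000200000c000001080010400001800000000000300000000000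40000200400000004000002800000000000000002004002400c002005000000000000000300001801c0000000000000000184002008000000000000040c00000020000000004000c00102000000800002000001001000201030000000200010000000000000030010820000000188000006000000000000032020020000000002000008002040000000000006008009000000000000000100002008c00030000000100000000000030000000000040000000000004001030000082010400000100004000000c00400100100000000000000040000008000400c00201200000000000000000000080e20000000000000030000006004000000000000000400000200000080002004400206000002800004004000400800000c000010000001b00000000000000340000200000808000004900060000200000000000000000008000000300000000000000300001000a00060108000002000000000c0000000000000008040030000200000c40000180000010000200000000000040000000000030400181100000002004004000080008000000000000000038000010000000106000000002020010000080006008004400000000000040200006006000010c20000200000000000000000000000000000000000034000810000006020000000000188008001000000100810000204006002000000000000006020440000000186000001004010000000100000006000800000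000000030200008008c00010810000080000000000030000000000000000000000040000800000180010000000200200000000400000000520000208006008000000000000040000c20000000088000006808030010000100008002000000000000000030000004006000001000000080000000000000000000000030000000000002000420000080020800000080006008000c008000800200010000000100020010000000000000000000404000808100000000000000000002005a0006041000000200800000110000000000000034030000000000031020000088000c30000000000000000000000000000030c000008000001000000044000000001a0008040c40000000000000000031000100c100000000000000300000802000000310000001804000800a0000000000000042040030000100040400000000000830000000000000000000000000000000000080900000080004000800000000000030006000000800000180e000000000000000300000010800000000000000400840000040000000000000010000011c000010000800640008800000000008200200080040010103000000000013000000000000000200080000010000000000000000000000000000000000000000000000000000000000000000000000000000000000000000000000000000000000000000000000000000000000000000000000000000000000000000000000000000000000000000000000000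

/-- A non-constant element of `W`. -/
def f0 (v : Vec) : ZMod 5 := (((f0Tab >>> (3 * code v)) &&& 7 : ℕ) : ZMod 5)

set_option maxRecDepth 1000000 in
set_option maxHeartbeats 0 in
theorem f0_sc1 : ∀ a b c : GF16, f0 (e 2 • ![a, b, c]) = f0 ![a, b, c] := by decide +kernel

theorem gen2 : ∀ c : GF16, c ≠ 0 → ∃ n : Fin 15, c = e 2 ^ (n : ℕ) := by decide +kernel

theorem f0_sc (c : GF16) (v : Vec) (hc : c ≠ 0) : f0 (c • v) = f0 v := by
  obtain ⟨n, rfl⟩ := gen2 c hc
  have : ∀ m : ℕ, f0 ((e 2 ^ m) • v) = f0 v := by
    intro m
    induction m with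
    | zero => rw [pow_zero, one_smul]
    | succ m ih =>
      rw [pow_succ', mul_smul]
      have h := f0_sc1 ((e 2 ^ m • v) 0) ((e 2 ^ m • v) 1) ((e 2 ^ m • v) 2)
      rw [← vec_eta] at h
      rw [h, ih]
  exact this n

set_option maxRecDepth 1000000 in
set_option maxHeartbeats 0 in
theorem nbA : ∀ b c : GF16, Iso ![1, b, c] → ∀ b' c' : GF16, Iso ![1, b', c'] →
    hf ![1, b, c] ![1, b', c'] ≠ 0 → bsum f0 ![1, b, c] ![1, b', c'] = 0 := by decide +kernel

set_option maxRecDepth 1000000 in
set_option maxHeartbeats 0 in
theorem nbB : ∀ b c : GF16, Iso ![1, b, c] → ∀ c' : GF16, Iso ![0, 1, c'] →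
    hf ![1, b, c] ![0, 1, c'] ≠ 0 → bsum f0 ![1, b, c] ![0, 1, c'] = 0 := by decide +kernel

set_option maxRecDepth 1000000 in
set_option maxHeartbeats 0 in
theorem nbC : ∀ c : GF16, Iso ![0, 1, c] → ∀ b' c' : GF16, Iso ![1, b', c'] →
    hf ![0, 1, c] ![1, b', c'] ≠ 0 → bsum f0 ![0, 1, c] ![1, b', c'] = 0 := by decide +kernel

set_option maxRecDepth 1000000 in
set_option maxHeartbeats 0 in
theorem nbD : ∀ c : GF16, Iso ![0, 1, c] → ∀ c' : GF16, Iso ![0, 1, c'] →
    hf ![0, 1, c] ![0, 1, c'] ≠ 0 → bsum f0 ![0, 1, c] ![0, 1, c'] = 0 := by decide +kernel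

theorem norm_cases (v : Vec) (hv : Iso v) :
    ∃ l : GF16, l ≠ 0 ∧ ((∃ b c, v = l • ![1, b, c]) ∨ (∃ c, v = l • ![0, 1, c])) := by
  by_cases h0 : v 0 = 0
  · by_cases h1 : v 1 = 0
    · exfalso
      have hz : ∀ z : GF16, z * GF16.frob z = 0 → z = 0 := by decide
      have h2 : v 2 = 0 := by
        apply hz
        have := hv.2
        unfold hf at this
        rw [h0, h1] at this
        simpa using this
      apply hv.1
      funext i
      fin_cases i
      · exact h0
      · exact h1
      · exact h2
    · refine ⟨v 1, h1, Or.inr ⟨(v 1)⁻¹ * v 2, ?_⟩⟩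
      funext i
      fin_cases i
      · simp [h0]
      · simp
      · simp
        field_simp
  · refine ⟨v 0, h0, Or.inl ⟨(v 0)⁻¹ * v 1, (v 0)⁻¹ * v 2, ?_⟩⟩
    funext i
    fin_cases i
    · simp
    · simp
      field_simp
    · simp
      field_simp

theorem hf_smul (l m : GF16) (u w : Vec) : hf (l • u) (m • w) = l * GF16.frob m * hf u w := by
  unfold hf
  simp only [Pi.smul_apply, smul_eq_mul, frob_mul]
  ring

theorem kappa : ∀ l : GF16, l ≠ 0 →
    l * GF16.frob l = 1 ∨ l * GF16.frob l = om ∨ l * GF16.frob l = om2 := by decide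

theorem om_facts : om * om = om2 ∧ om2 * om = 1 ∧ om * om2 = 1 ∧ om2 * om2 = om := by decide

theorem bsum_smul (f : Vec → ZMod 5) (hsc : ∀ (c : GF16) (v : Vec), c ≠ 0 → f (c • v) = f v)
    (l m : GF16) (hl : l ≠ 0) (hm : m ≠ 0) (u w : Vec) : bsum f (l • u) (m • w) = bsum f u w := by
  have key : ∀ t : GF16, f (m • w + (t * GF16.frob (hf (l • u) (m • w))) • (l • u))
      = f (w + ((t * (l * GF16.frob l)) * GF16.frob (hf u w)) • u) := by
    intro t
    have : m • w + (t * GF16.frob (hf (l • u) (m • w))) • (l • u)
        = m • (w + ((t * (l * GF16.frob l)) * GF16.frob (hf u w)) • u) := by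
      rw [hf_smul, frob_mul, frob_mul, frob_frob]
      funext i
      simp only [Pi.add_apply, Pi.smul_apply, smul_eq_mul]
      ring
    rw [this, hsc m _ hm]
  have k1 := key 1
  have ko := key om
  have ko2 := key om2
  rw [one_mul] at k1
  unfold bsum
  rw [hsc l u hl, hsc m w hm, k1, ko, ko2]
  rcases kappa l hl with h | h | h
  · rw [h]
    simp only [mul_one, one_mul]
  · rw [h]
    simp only [one_mul, om_facts.1, om_facts.2.1]
    ring
  · rw [h]
    simp only [one_mul, om_facts.2.2.1, om_facts.2.2.2]
    ring

theorem iso_of_smul {l : GF16} {u : Vec} (hl : l ≠ 0) (h : Iso (l • u)) : Iso u := by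
  refine ⟨?_, ?_⟩
  · rintro rfl
    exact h.1 (smul_zero l)
  · have h1 := h.2
    rw [hf_smul] at h1
    rcases mul_eq_zero.1 h1 with h2 | h2
    · rcases mul_eq_zero.1 h2 with h3 | h3
      · exact absurd h3 hl
      · exact absurd h3 (frob_ne_zero l hl)
    · exact h2

theorem f0_mem : f0 ∈ W := by
  refine ⟨fun c v hc => f0_sc c v hc, fun u w hu hw huw => ?_⟩
  obtain ⟨l, hl, hu'⟩ := norm_cases u hu
  obtain ⟨m, hm, hw'⟩ := norm_cases w hw
  have hne : ∀ u' w' : Vec, hf (l • u') (m • w') ≠ 0 → hf u' w' ≠ 0 := by
    intro u' w' h1 h2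
    apply h1
    rw [hf_smul, h2, mul_zero]
  rcases hu' with ⟨b, c, rfl⟩ | ⟨c, rfl⟩ <;> rcases hw' with ⟨b', c', rfl⟩ | ⟨c', rfl⟩
  · rw [bsum_smul f0 f0_sc l m hl hm]
    exact nbA b c (iso_of_smul hl hu) b' c' (iso_of_smul hm hw) (hne _ _ huw)
  · rw [bsum_smul f0 f0_sc l m hl hm]
    exact nbB b c (iso_of_smul hl hu) c' (iso_of_smul hm hw) (hne _ _ huw)
  · rw [bsum_smul f0 f0_sc l m hl hm]
    exact nbC c (iso_of_smul hl hu) b' c' (iso_of_smul hm hw) (hne _ _ huw)
  · rw [bsum_smul f0 f0_sc l m hl hm]
    exact nbD c (iso_of_smul hl hu) c' (iso_of_smul hm hw) (hne _ _ huw)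

set_option maxRecDepth 100000 in
theorem del_f0_ne : del f0 ![e 0, e 1, e 1] ![e 0, e 1, e 8] ≠ 0 := by decide +kernel

instance : Nontrivial V := by
  refine ⟨⟨⟨del f0, f0, f0_mem, rfl⟩, 0, ?_⟩⟩
  intro h
  have h1 := congrArg (fun Ψ : V => Ψ.1 ![e 0, e 1, e 1] ![e 0, e 1, e 8]) h
  exact del_f0_ne h1

instance : Finite V := Subtype.finite

theorem five_nsmul (Φ : V) : 5 • Φ = 0 := by
  apply Subtype.ext
  funext x y
  show 5 • Φ.1 x y = 0
  have : ∀ z : ZMod 5, 5 • z = 0 := by decide
  exact this _

end Cfsg.Agent.Lib.Helper61.U34Main
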