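import Mathlib
import Cfsg.Agent.Lib.Helper88.VFStmt

/-!
# S5286 piece CBWD: crossing an edge backwards.
-/

set_option autoImplicit false

namespace Cfsg.Agent.Lib.Helper61.VFCBWD

open Cfsg Cfsg.Agent.Lib.Helper88.VFDefs Cfsg.Agent.Lib.Helper88.VFStmt

universe u

theorem lam_injective {Ω : Type u} [Group Ω] (S : Subgroup Ω) : Function.Injective (lam S) := by
  intro s s' h
  have h1 := congrArg (fun f : Equiv.Perm S => f 1) h
  simpa [lam_apply] using h1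

theorem main : CBwdP.{u} := by
  intro Ω _ S F sg hsg R i a hR hCF P hP ψ hψ hψR hψa
  have hφi : i.2.1 ∈ F.Hom i.1 := i.2.2
  have hPiS : i.1 ≤ S := (F.le_of_mem hφi).1
  have hS2 : ∀ v : i.1, i.2.1 v ∈ S := (F.le_of_mem hφi).2
  -- Step 1: `P ≤ φ_i(P_i)`
  have hPr : ∀ x : P, (x : Ω) ∈ i.2.1.range := by
    intro x
    have h1 : lam S ⟨x, hP x.2⟩ = a⁻¹ * lam S ⟨ψ x, hψ x⟩ * a := by
      rw [mul_assoc, ← hψa x, inv_mul_cancel_left]
    have h2 : lam S ⟨x, hP x.2⟩ ∈ QF F i := by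
      rw [h1]; exact hR _ (hψR x)
    obtain ⟨s, hs, hs2⟩ := Subgroup.mem_map.mp h2
    have hs3 : s = ⟨x, hP x.2⟩ := lam_injective S hs2
    rw [hs3] at hs
    exact Subgroup.mem_subgroupOf.mp hs
  -- Step 2: the inverse of `φ_i`
  obtain ⟨θ0, hθ0, hθ0x⟩ := F.inv_mem hφi
  -- Step 3: its restriction to `P`
  have hc1 : conjHom P (1 : Ω) ∈ F.Hom P := F.conj_mem hP S.one_mem
  have hc1r : ∀ x : P, conjHom P (1 : Ω) x ∈ i.2.1.range := by
    intro x
    have : conjHom P (1 : Ω) x = x := by simp [conjHom]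
    rw [this]; exact hPr x
  have hθ := F.comp_mem hc1 hθ0 hc1r
  have hθx : ∀ (x : P) (v : i.1), i.2.1 v = x →
      (θ0.comp ((conjHom P (1 : Ω)).codRestrict i.2.1.range hc1r)) x = v := by
    intro x v hv
    rw [← hθ0x v]
    show θ0 _ = θ0 _
    congr 1
    apply Subtype.ext
    simp [conjHom, hv]
  -- Step 4: `P' = φ_i⁻¹(P)` and `ψ' = ψ ∘ φ_i`
  have hP'Pi : (P.comap i.2.1).map i.1.subtype ≤ i.1 := Subgroup.map_subtype_le _
  have hP'S : (P.comap i.2.1).map i.1.subtype ≤ S := hP'Pi.trans hPiS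
  have hP'mem : ∀ w : ((P.comap i.2.1).map i.1.subtype : Subgroup Ω),
      i.2.1 (Subgroup.inclusion hP'Pi w) ∈ P := by
    intro w
    obtain ⟨v, hv, hvw⟩ := Subgroup.mem_map.mp w.2
    have : Subgroup.inclusion hP'Pi w = v := Subtype.ext hvw.symm
    rw [this]; exact hv
  have hψ' : ∀ w : ((P.comap i.2.1).map i.1.subtype : Subgroup Ω),
      (ψ.comp ((i.2.1.comp (Subgroup.inclusion hP'Pi)).codRestrict P hP'mem)) w ∈ S :=
    fun w => hψ _
  have hψ'R : ∀ w : ((P.comap i.2.1).map i.1.subtype : Subgroup Ω),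
      lam S ⟨(ψ.comp ((i.2.1.comp (Subgroup.inclusion hP'Pi)).codRestrict P hP'mem)) w, hψ' w⟩
        ∈ R :=
    fun w => hψR _
  have hψ'a : ∀ w : ((P.comap i.2.1).map i.1.subtype : Subgroup Ω),
      (a * sg i) * lam S ⟨w, hP'S w.2⟩ =
        lam S ⟨(ψ.comp ((i.2.1.comp (Subgroup.inclusion hP'Pi)).codRestrict P hP'mem)) w,
          hψ' w⟩ * (a * sg i) := by
    intro w
    have e1 : sg i * lam S ⟨w, hP'S w.2⟩ =
        lam S ⟨i.2.1 (Subgroup.inclusion hP'Pi w), hS2 _⟩ * sg i :=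
      hsg i (Subgroup.inclusion hP'Pi w)
    have e2 : a * lam S ⟨i.2.1 (Subgroup.inclusion hP'Pi w), hS2 _⟩ =
        lam S ⟨(ψ.comp ((i.2.1.comp (Subgroup.inclusion hP'Pi)).codRestrict P hP'mem)) w,
          hψ' w⟩ * a :=
      hψa ⟨i.2.1 (Subgroup.inclusion hP'Pi w), hP'mem w⟩
    rw [mul_assoc, e1, ← mul_assoc, e2, mul_assoc]
  have hψ'F := hCF _ hP'S _ hψ' hψ'R hψ'a
  -- Step 5: compose
  have hθP' : ∀ x : P, (θ0.comp ((conjHom P (1 : Ω)).codRestrict i.2.1.range hc1r)) x ∈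
      (P.comap i.2.1).map i.1.subtype := by
    intro x
    obtain ⟨v, hv⟩ := hPr x
    rw [hθx x v hv]
    exact Subgroup.mem_map.mpr ⟨v, (by show i.2.1 v ∈ P; rw [hv]; exact x.2), rfl⟩
  have hfin := F.comp_mem hθ hψ'F hθP'
  have heq : ψ = (ψ.comp ((i.2.1.comp (Subgroup.inclusion hP'Pi)).codRestrict P hP'mem)).comp
      ((θ0.comp ((conjHom P (1 : Ω)).codRestrict i.2.1.range hc1r)).codRestrict _ hθP') := by
    ext x
    obtain ⟨v, hv⟩ := hPr x
    show ψ x = ψ ⟨i.2.1 (Subgroup.inclusion hP'Pi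
      ⟨(θ0.comp ((conjHom P (1 : Ω)).codRestrict i.2.1.range hc1r)) x, hθP' x⟩), _⟩
    congr 1
    apply Subtype.ext
    show (x : Ω) = i.2.1 (Subgroup.inclusion hP'Pi
      ⟨(θ0.comp ((conjHom P (1 : Ω)).codRestrict i.2.1.range hc1r)) x, hθP' x⟩)
    rw [← hv]
    congr 1
    apply Subtype.ext
    show (v : Ω) = (θ0.comp ((conjHom P (1 : Ω)).codRestrict i.2.1.range hc1r)) x
    exact (hθx x v hv).symm
  rw [heq]; exact hfin

end Cfsg.Agent.Lib.Helper61.VFCBWD
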